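import Groth.Agent.TateGlob.K282.Kill
import Groth.Agent.TateGlob.K775.HnMain
import Groth.Agent.TateGlob.K775.FinSha

/-!
# `Ш²(K, R_{E/K} 𝔾_m) = 0` for global function fields (helper282)
-/

set_option autoImplicit false
universe u
open CategoryTheory CategoryTheory.Limits AlgebraicGeometry TopologicalSpace Opposite
open scoped TensorProduct

noncomputable section

namespace K282.BrHN

open K282.CycSeq K282.CycFld K282.NormSec K282.CycRes K282.FldInf
open FunFld AdFn K660.Places

local notation "K" => Scheme.fppfPrecoverage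

section general

theorem res_surjective {X : Scheme.{u}} (F : BigSite.Ab K X) (n : ℕ) {T : Over X} (hT : IsTerminal T)
    (y : BigSite.HU K F n T) : ∃ x : BigSite.H K X F n, HRes.res K F n T x = y := by
  obtain ⟨x, hx⟩ := (K827.Abs.res_id_bijective n F).2 (HRes.resHU K F n (hT.from (Over.mk (𝟙 X))) y)
  refine ⟨x, ?_⟩
  let h0 : IsTerminal (Over.mk (𝟙 X)) := Over.mkIdTerminal
  rw [← K827.Abs.resHU_res n F (h0.from T) x, hx, ← K828.BigCoh.resHU_comp, hT.hom_ext (_ ≫ _) (𝟙 T),
    K828.BigCoh.resHU_id]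

end general

variable {k : Type u} [Field k] [Finite k] {E : Type u} [Field E] [Algebra k E]

/-- **Brauer–Hasse–Noether**: a class of `H²(E, 𝔾_m)` which dies in all `H²(E_w, 𝔾_m)` is zero. -/
theorem eq_zero {t : E} (ht : IsGen k E t) (x : BigSite.H K (Spec (CommRingCat.of E)) (G (Spec (CommRingCat.of E))) 2)
    (hx : ∀ w : Place k E, HRes.res K (G (Spec (CommRingCat.of E))) 2 (TA E (Kv w)) x = 0) : x = 0 := by
  obtain ⟨c, hc, hcx⟩ := Kill.exists_res_eq_zero ht x
  have h1 := finiteDimensional_Lc c hc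
  have h2 := isGalois c hc
  obtain ⟨g, hg⟩ := (isCyclic c hc).exists_generator
  obtain ⟨a, ha, ha1, ha2⟩ := residue g hg x hcx
  exact ha2 (K775.HnMain.exists_norm_of_isGen ht (adjoin_eq_top c hc) a fun w => ha1 (Kv w) (hx w))

/-! ### Descent to the base field -/

section descent

variable {F : Type u} [Field F] [Algebra F E] [FiniteDimensional F E] [Algebra.IsSeparable F E] [Algebra k F]
  [IsScalarTower k F E]

/-- `Spec E` over itself, as the base change of the terminal object. -/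
theorem terminal_pullback {X X' : Scheme.{u}} (f : X' ⟶ X) : Nonempty (IsTerminal ((Over.pullback f).obj (Over.mk (𝟙 X)))) :=
  ⟨IsTerminal.isTerminalObj (Over.pullback f) _ Over.mkIdTerminal⟩

/-- the morphism `Spec E_w → Spec F_v ×_F Spec E` -/
def toPb {A B : Type u} [CommRing A] [CommRing B] [Algebra F A] [Algebra E B] (φ : A →+* B)
    (h : φ.comp (algebraMap F A) = (algebraMap E B).comp (algebraMap F E)) :
    TA E B ⟶ (Over.pullback (fld F E)).obj (TA F A) :=
  Over.homMk (pullback.lift (f := (TA F A).hom) (g := fld F E) (Spec.map (CommRingCat.ofHom φ)) (TA E B).hom (by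
    change Spec.map _ ≫ Spec.map _ = Spec.map _ ≫ Spec.map _
    rw [← Spec.map_comp, ← Spec.map_comp, ← CommRingCat.ofHom_comp, ← CommRingCat.ofHom_comp, h]))
    (pullback.lift_snd _ _ _)

/-- `Ш²(F, R_{E/F} 𝔾_m) = 0`, version for the sheaf of units. -/
theorem eq_zero_push {t : F} (ht : IsGen k F t)
    (y : BigSite.H K (Spec (CommRingCat.of F)) (U (fld F E)) 2)
    (hy : ∀ v : Place k F, HRes.res K (U (fld F E)) 2 (TA F (Kv v)) y = 0) : y = 0 := by
  let 𝓗 := K828.BigCoh.bigCoh K (Spec (CommRingCat.of F))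
  let 𝓗' := K828.BigCoh.bigCoh K (Spec (CommRingCat.of E))
  let T₀ : Over (Spec (CommRingCat.of F)) := Over.mk (𝟙 _)
  obtain ⟨y', hy'⟩ := K829.Transport.transport (fld F E) 𝓗 𝓗' 2 (G (Spec (CommRingCat.of E)))
    (T := T₀) (HRes.res K (U (fld F E)) 2 T₀ y)
  obtain ⟨hT⟩ := terminal_pullback (fld F E)
  obtain ⟨z, hz⟩ := res_surjective (G (Spec (CommRingCat.of E))) 2 hT y'
  have key : z = 0 := by
    refine eq_zero (K661.OverFF.isGen_algebraMap (K' := E) ht) z fun w => ?_
    obtain ⟨v, φ, hφ⟩ := K775.Below.exists_ringHom (k := k) ht w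
    let g : TA F (Kv v) ⟶ T₀ := Over.mkIdTerminal.from _
    have h1 := (hy' (TA F (Kv v)) g).1 ((K827.Abs.resHU_res 2 (U (fld F E)) g y).trans (hy v))
    let h : TA E (Kv w) ⟶ (Over.pullback (fld F E)).obj (TA F (Kv v)) := toPb φ (RingHom.ext hφ)
    have h2 : 𝓗'.res h (𝓗'.res ((Over.pullback (fld F E)).map g) y') = 0 := by
      rw [h1, map_zero]
    rw [← 𝓗'.res_comp, ← hz] at h2
    exact (K827.Abs.resHU_res 2 (G (Spec (CommRingCat.of E))) _ z).symm.trans h2
  have h3 : y' = 0 := (hz.symm.trans (congrArg _ key)).trans (map_zero _)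
  have h4 := (hy' T₀ (𝟙 T₀)).2 (by rw [h3, map_zero])
  have h5 : HRes.res K (U (fld F E)) 2 T₀ y = 0 := (𝓗.res_id _).symm.trans h4
  exact eq_zero_of_res _ 2 Over.mkIdTerminal y h5

/-- **`Ш²(F, R_{E/F} 𝔾_m) = 0`.** -/
theorem shaLoc_pushGm {t : F} (ht : IsGen k F t) :
    ShaLoc K k (CGrpSh3.pushGm K (fld F E)) 2 = ⊥ := by
  rw [eq_bot_iff]
  intro x hx
  let e : CGrpSh3.pushGm K (fld F E) ≅ U (fld F E) :=
    (BigSite.pushBig K (fld F E) AddCommGrpCat.{u + 1}).mapIso (K810.GmIso.isoF (Spec (CommRingCat.of E)))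
  have h1 := K775.FinSha.map_mem_shaLoc (k := k) e.hom 2 hx
  rw [K775.MemSha.mem_iff] at h1
  exact AddSubgroup.mem_bot.2 (K775.ShaPull.map_iso_injective e 2 x (eq_zero_push ht _ h1))

end descent

end K282.BrHN
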