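import Groth.Agent.TateGlob.K282.CycSeq
import Groth.Agent.TateGlob.K828.BigCoh
import Groth.Agent.TateGlob.K828.DisjVan
import Groth.Agent.TateGlob.K828.FppfDisj
import Groth.Agent.TateLoc.K810.EtRes
import Groth.Agent.GaDual.K771.FppfGa
import Groth.Agent.S5714
import Groth.Agent.Sga4h.TameFieldK2
import Mathlib.AlgebraicGeometry.Artinian

/-!
# `H¹_fppf(Z, 𝔾_m) = 0` for `Z` discrete; `H^q_fppf(X, 𝔾_m) = H^q_et(X, 𝔾_m)` (helper282)
-/

set_option autoImplicit false
universe u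
open CategoryTheory CategoryTheory.Limits AlgebraicGeometry TopologicalSpace Opposite

noncomputable section

namespace K282.GmVan

open K282.CycSeq (G)

local notation "K" => Scheme.fppfPrecoverage

/-- `H^q_et(X, 𝔾_m) ≅ H^q_fppf(X, 𝔾_m)` -/
theorem nonempty_equiv (X : Scheme.{u}) (q : ℕ) :
    Nonempty (EtCoh.H X (EtCoh.Gm X) q ≃+ BigSite.H K X (G X) q) := by
  have := K771.FppfGa.aCont X
  obtain ⟨e⟩ := Groth.Agent.Etrest.RAcyc.nonempty_extAddEquiv (EtFppf.aAdj X)
    (Groth.Agent.Etrest.FppfExact.aPush_injective X) (G := EtDl.GmF X) (Groth.Agent.S5714.result X)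
    ((constantSheaf X.smallEtaleTopology AddCommGrpCat.{u + 1}).obj (AddCommGrpCat.of (ULift ℤ))) q
  have e2 : Abelian.Ext ((EtFppf.aPull X).obj
      ((constantSheaf X.smallEtaleTopology AddCommGrpCat.{u + 1}).obj
      (AddCommGrpCat.of (ULift ℤ)))) (EtDl.GmF X) q ≃+ EtFppf.HF X (EtDl.GmF X) q :=
    (((Abelian.extFunctor q).mapIso
      (Groth.Agent.Etrest.FppfExact.constIso X (AddCommGrpCat.of (ULift ℤ))).symm.op).app
        (EtDl.GmF X)).addCommGroupIsoToAddEquiv
  exact ⟨e.trans e2⟩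

end K282.GmVan
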