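import Groth.Agent.TateGlob.K282.BrHN
import Groth.Agent.TateGlob.K775.ShaFin
import Groth.Agent.TateGlob.K775.DualFin
import Groth.Agent.TateGlob.K829.DualPush
import Groth.Agent.TateGlob.K829.ThmN2

/-!
# `Ш²(K, (R_{E/K} 𝔾_m)^) = 0` for global function fields (helper282)

`shaOne`: a class of `H¹(E, ℤ/N)` which dies at all places is zero (Chebotarev); `eq_zero_Z`: the same for `H²(E, ℤ)`;
`shaLoc_dualPush`: the dual of the Weil restriction of `𝔾_m`.
-/

set_option autoImplicit false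
universe u
open CategoryTheory CategoryTheory.Limits AlgebraicGeometry TopologicalSpace Opposite

noncomputable section

namespace K282.DualSha

open K829.Cst K829.ThmN
open FunFld AdFn K660.Places

local notation "K" => Scheme.fppfPrecoverage

theorem isFinite_DS (S : Scheme.{u}) (M : Type) [AddCommGroup M] [Finite M] : IsFinite (Red.DS S M).hom := by
  have h1 : Module.Finite (ULift.{u} ℤ) (MonoidAlgebra (ULift.{u} ℤ) (Multiplicative M)) :=
    Module.Finite.of_basis (MonoidAlgebra.basis (Multiplicative M) (ULift.{u} ℤ))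
  have h2 : IsFinite (Red.diag (ULift.{u} ℤ) M).hom := by
    change IsFinite (Spec.map (CommRingCat.ofHom (algebraMap _ _)))
    rw [IsFinite.SpecMap_iff]
    exact RingHom.finite_algebraMap.mpr h1
  change IsFinite (pullback.snd _ _)
  infer_instance

/-- Sections of a constant sheaf over the spectrum of a field do not see endomorphisms. -/
theorem Zc_map_eq {X : Scheme.{u}} (A : Type (u + 1)) [AddCommGroup A] {T : Over X} [Subsingleton T.left] (g : T ⟶ T)
    (s : (Zc X A).obj.obj (op T)) : (Zc X A).obj.map g.op s = s := by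
  apply (sec X A T).injective
  rw [sec_res]
  apply LocallyConstant.ext
  intro x
  change (sec X A T s) (g.left x) = (sec X A T s) x
  rw [Subsingleton.elim (g.left x) x]

theorem pts_map_eq {X : Scheme.{u}} {G : Over X} [GrpObj G] [IsCommMonObj G] (A : Type (u + 1)) [AddCommGroup A]
    (e : CGrpSh.pts K G ≅ Zc X A) {T : Over X} [Subsingleton T.left] (g : T ⟶ T) (x : T ⟶ G) : g ≫ x = x := by
  have h1 : (CGrpSh.pts K G).obj.map g.op (ULift.up (Additive.ofMul x)) = ULift.up (Additive.ofMul x) := by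
    have hinj : Function.Injective (e.hom.hom.app (op T)) := by
      intro a b h
      have h2 : ∀ c, e.inv.hom.app (op T) (e.hom.hom.app (op T) c) = c := fun c => by
        have : (e.hom ≫ e.inv).hom.app (op T) c = c := by rw [e.hom_inv_id]; rfl
        exact this
      rw [← h2 a, h, h2]
    apply hinj
    have h3 := ConcreteCategory.congr_hom (e.hom.hom.naturality g.op) (ULift.up (Additive.ofMul x))
    exact h3.trans (Zc_map_eq A g _)
  exact congrArg (fun z => Additive.toMul (ULift.down z)) h1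

variable {k : Type u} [Field k] [Finite k] {E : Type u} [Field E] [Algebra k E]

/-- A class of `H¹(E, ℤ/N)` which dies at all places is zero. -/
theorem shaOne {t : E} (ht : IsGen k E t) (N : ℕ) [NeZero N] :
    ShaLoc K k (Zc (Spec (CommRingCat.of E)) (ULift.{u + 1} (ZMod N))) 1 = ⊥ := by
  have := isFinite_DS (Spec (CommRingCat.of E)) (ZMod N)
  obtain ⟨G, _, _, _, ⟨e⟩⟩ := K775.DualFin.exists_dual (Red.DS (Spec (CommRingCat.of E)) (ZMod N))
  let e' : CGrpSh.pts K G ≅ Zc (Spec (CommRingCat.of E)) (ULift.{u + 1} (ZMod N)) :=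
    e ≪≫ (K810.DualDS.dsDualIso (Spec (CommRingCat.of E)) (ZMod N)).symm ≪≫ constIsoZc _ _
  refine K775.ShaFin.shaLoc_eq_bot ht (Ω := AlgebraicClosure E) G e' ?_
  intro σ x
  have : Subsingleton (specOf (algebraMap E (AlgebraicClosure E))).left :=
    inferInstanceAs (Subsingleton (PrimeSpectrum (AlgebraicClosure E)))
  exact pts_map_eq _ e' _ x

/-- Classes of positive degree with integral coefficients over a field are torsion. -/
theorem tors_field {X : Scheme.{u}} (L : Type u) [Field L] (s : Spec (CommRingCat.of L) ⟶ X) :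
    Tors (K828.BigCoh.bigCoh K X) (Over.mk s) := tors_local L s

section abs

variable {X : Scheme.{u}} (𝓗 : K828.CohT K X)

/-- A class of degree two with integral coefficients which dies on a family of objects. -/
theorem exists_one {T : Over X} (hT : Tors 𝓗 T) (x : 𝓗.H (Zc X (ULift.{u + 1} ℤ)) 2 T) :
    ∃ (N : ℕ) (_ : NeZero N) (y : 𝓗.H (Zc X (ULift.{u + 1} (ZMod N))) 1 T),
      (y = 0 → x = 0) ∧ ∀ (V : Over X) (g : V ⟶ T), Tors 𝓗 V → 𝓗.res g x = 0 → 𝓗.res g y = 0 := by
  obtain ⟨N, hN, h⟩ := hT 1 x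
  have hN' : NeZero N := ⟨hN.ne'⟩
  have hS := cxN_shortExact (X := X) hN
  obtain ⟨y, hy⟩ := 𝓗.exact₁ hS x h
  refine ⟨N, hN', y, fun h0 => ?_, fun V g hV hg => ?_⟩
  · rw [← hy, h0]
    exact map_zero _
  · have h3 : 𝓗.del hS (𝓗.res g y) = 0 := by
      rw [𝓗.del_res, hy]
      exact hg
    obtain ⟨z, hz⟩ := 𝓗.exact₃ hS _ h3
    have hz0 : z = 0 := eq_zero_of_tors hV z
    rw [hz0, map_zero] at hz
    exact hz.symm

end abs

/-- A class of `H²(E, ℤ)` which dies at all places is zero. -/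
theorem eq_zero_Z {t : E} (ht : IsGen k E t)
    (x : BigSite.H K (Spec (CommRingCat.of E)) (Zc (Spec (CommRingCat.of E)) (ULift.{u + 1} ℤ)) 2)
    (hx : ∀ w : Place k E, HRes.res K (Zc (Spec (CommRingCat.of E)) (ULift.{u + 1} ℤ)) 2 (specOf (toKv w)) x = 0) :
    x = 0 := by
  let 𝓗 := K828.BigCoh.bigCoh K (Spec (CommRingCat.of E))
  let T₀ : Over (Spec (CommRingCat.of E)) := Over.mk (𝟙 _)
  obtain ⟨N, hN, y, hy0, hy⟩ := exists_one 𝓗 (T := T₀) (tors_field E _) (HRes.res K _ 2 T₀ x)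
  obtain ⟨z, hz⟩ := K282.BrHN.res_surjective (Zc (Spec (CommRingCat.of E)) (ULift.{u + 1} (ZMod N))) 1
    Over.mkIdTerminal y
  have hz0 : z ∈ ShaLoc K k (Zc (Spec (CommRingCat.of E)) (ULift.{u + 1} (ZMod N))) 1 := by
    rw [K775.MemSha.mem_iff]
    intro w
    let g : specOf (toKv w) ⟶ T₀ := Over.mkIdTerminal.from _
    have h1 := hy _ g (tors_field (Kv w) _) ((K827.Abs.resHU_res 2 _ g x).trans (hx w))
    rw [← hz] at h1
    exact (K827.Abs.resHU_res 1 _ g z).symm.trans h1
  rw [shaOne ht N] at hz0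
  have h2 : y = 0 := (hz.symm.trans (congrArg _ (AddSubgroup.mem_bot.1 hz0))).trans (map_zero _)
  exact K282.CycRes.eq_zero_of_res _ 2 Over.mkIdTerminal x (hy0 h2)

/-! ### Descent to the base field -/

section descent

open K282.CycFld K282.NormSec K282.CycRes

variable {F : Type u} [Field F] [Algebra F E] [FiniteDimensional F E] [Algebra.IsSeparable F E] [Algebra k F]
  [IsScalarTower k F E]

/-- A class of `H²(F, (R_{E/F} 𝔾_m)^)` which dies at all places is zero. -/
theorem eq_zero_dual {t : F} (ht : IsGen k F t)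
    (x : BigSite.H K (Spec (CommRingCat.of F)) (CGrpSh2.dualSh K (CGrpSh3.pushGm K (fld F E))) 2)
    (hx : ∀ v : Place k F, HRes.res K (CGrpSh2.dualSh K (CGrpSh3.pushGm K (fld F E))) 2 (specOf (toKv v)) x = 0) :
    x = 0 := by
  let 𝓗 := K828.BigCoh.bigCoh K (Spec (CommRingCat.of F))
  let 𝓗' := K828.BigCoh.bigCoh K (Spec (CommRingCat.of E))
  let T₀ : Over (Spec (CommRingCat.of F)) := Over.mk (𝟙 _)
  obtain ⟨y', hy'⟩ := K829.DualPush.exists_corr (fld F E) 2 (T := T₀) (HRes.res K _ 2 T₀ x)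
  obtain ⟨hT⟩ := K282.BrHN.terminal_pullback (fld F E)
  obtain ⟨z, hz⟩ := K282.BrHN.res_surjective (Zc (Spec (CommRingCat.of E)) (ULift.{u + 1} ℤ)) 2 hT y'
  have key : z = 0 := by
    refine eq_zero_Z (K661.OverFF.isGen_algebraMap (K' := E) ht) z fun w => ?_
    obtain ⟨v, φ, hφ⟩ := K775.Below.exists_ringHom (k := k) ht w
    let g : TA F (Kv v) ⟶ T₀ := Over.mkIdTerminal.from _
    have h1 := (hy' (TA F (Kv v)) g).1 ((K827.Abs.resHU_res 2 _ g x).trans (hx v))
    let h : TA E (Kv w) ⟶ (Over.pullback (fld F E)).obj (TA F (Kv v)) := K282.BrHN.toPb φ (RingHom.ext hφ)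
    have h2 : 𝓗'.res h (𝓗'.res ((Over.pullback (fld F E)).map g) y') = 0 :=
      (congrArg (𝓗'.res h) h1).trans (map_zero _)
    rw [← 𝓗'.res_comp, ← hz] at h2
    exact (K827.Abs.resHU_res 2 (Zc (Spec (CommRingCat.of E)) (ULift.{u + 1} ℤ)) _ z).symm.trans h2
  have h3 : y' = 0 := (hz.symm.trans (congrArg _ key)).trans (map_zero _)
  have h4 := (hy' T₀ (𝟙 T₀)).2 (by rw [h3, map_zero])
  have h5 : HRes.res K _ 2 T₀ x = 0 := (𝓗.res_id _).symm.trans h4
  exact eq_zero_of_res _ 2 Over.mkIdTerminal x h5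

/-- **`Ш²(F, (R_{E/F} 𝔾_m)^) = 0`.** -/
theorem shaLoc_dualPush {t : F} (ht : IsGen k F t) :
    ShaLoc K k (CGrpSh2.dualSh K (CGrpSh3.pushGm K (fld F E))) 2 = ⊥ := by
  rw [eq_bot_iff]
  intro x hx
  rw [K775.MemSha.mem_iff] at hx
  exact AddSubgroup.mem_bot.2 (eq_zero_dual ht x hx)

end descent

end K282.DualSha
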