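import Groth.Agent.TateGlob.K282.CycSeq2
import Groth.Agent.TateGlob.K828.Coh

/-!
# Classes of `H²(-, 𝔾_m)` killed by a cyclic covering and norm residues (helper282)
-/

set_option autoImplicit false
universe u
open CategoryTheory CategoryTheory.Limits AlgebraicGeometry TopologicalSpace Opposite

noncomputable section

namespace K282.CycSeq

local notation "K" => Scheme.fppfPrecoverage

variable {X X' : Scheme.{u}} {f : X' ⟶ X} {σ : X' ⟶ X'} {n : ℕ}

namespace Cyc

variable [IsFinite f] [Etale f] [IsLocallyNoetherian X] [Surjective f] (h : Cyc f σ n)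

omit [IsFinite f] [Etale f] [IsLocallyNoetherian X] [Surjective f] in
variable (f) in
/-- first sequence -/
abbrev S₁ : ShortComplex (BigSite.Ab K X) := ShortComplex.mk (iota f) (cokernel.π (iota f)) (cokernel.condition _)

omit [IsLocallyNoetherian X] [IsFinite f] in
include h in
theorem S₁_shortExact : (S₁ f).ShortExact where
  exact := ShortComplex.exact_cokernel _
  mono_f := h.mono_iota
  epi_g := inferInstanceAs (Epi (cokernel.π (iota f)))

/-- the map `𝔾_m \ f_* 𝔾_m → f_* 𝔾_m` -/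
def bar : cokernel (iota f) ⟶ U f := cokernel.desc (iota f) h.D h.iota_D

omit [IsLocallyNoetherian X] in
theorem π_bar : cokernel.π (iota f) ≫ h.bar = h.D := cokernel.π_desc _ _ _

theorem bar_norm : h.bar ≫ norm f = 0 := by
  rw [← cancel_epi (cokernel.π (iota f)), ← Category.assoc, π_bar, D_norm, comp_zero]

/-- second sequence -/
abbrev S₂ : ShortComplex (BigSite.Ab K X) := ShortComplex.mk h.bar (norm f) h.bar_norm

theorem S₂_shortExact : h.S₂.ShortExact where
  exact := by
    let φ : ShortComplex.mk h.D (norm f) h.D_norm ⟶ h.S₂ :=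
      { τ₁ := cokernel.π (iota f)
        τ₂ := 𝟙 _
        τ₃ := 𝟙 _
        comm₁₂ := by
          change cokernel.π (iota f) ≫ h.bar = h.D ≫ 𝟙 _
          rw [Category.comp_id, π_bar]
        comm₂₃ := by
          change 𝟙 _ ≫ norm f = norm f ≫ 𝟙 _
          rw [Category.comp_id, Category.id_comp] }
    have h1 : Epi φ.τ₁ := inferInstanceAs (Epi (cokernel.π (iota f)))
    have h2 : IsIso φ.τ₂ := inferInstanceAs (IsIso (𝟙 _))
    have h3 : Mono φ.τ₃ := inferInstanceAs (Mono (𝟙 _))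
    exact (ShortComplex.exact_iff_of_epi_of_isIso_of_mono φ).1 h.exact_two
  mono_f := (ShortComplex.mk (iota f) h.D h.iota_D).exact_iff_mono_cokernel_desc.1 h.exact_one
  epi_g := h.epi_norm

include h in
/-- **Norm residue class** of a class killed by the covering. -/
theorem exists_residue (𝓗 : K828.CohT K X) {T : Over X} (x : 𝓗.H (G X) 2 T) (hx : 𝓗.map (iota f) x = 0)
    (h1 : ∀ w : 𝓗.H (U f) 1 T, w = 0) :
    ∃ z : (G X).obj.obj (op T),
      (∀ (T' : Over X) (g : T' ⟶ T), (∀ w : 𝓗.H (U f) 1 T', w = 0) → 𝓗.res g x = 0 →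
        ∃ b : (U f).obj.obj (op T'), (norm f).hom.app (op T') b = (G X).obj.map g.op z) ∧
      ((∃ b : (U f).obj.obj (op T), (norm f).hom.app (op T) b = z) → x = 0) := by
  obtain ⟨y, rfl⟩ := 𝓗.exact₁ (S₁_shortExact h) x hx
  obtain ⟨z, rfl⟩ := 𝓗.exact₁ h.S₂_shortExact y (h1 _)
  refine ⟨𝓗.sec z, ?_, ?_⟩
  · intro T' g h1' hg
    have hg' := (𝓗.del_res (S₁_shortExact h) g (𝓗.del h.S₂_shortExact z)).trans hg
    obtain ⟨w, hw⟩ := 𝓗.exact₃ (S₁_shortExact h) _ hg'
    have hw' : 𝓗.del h.S₂_shortExact (𝓗.res g z) = 0 := by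
      rw [𝓗.del_res, ← hw]
      exact (congrArg _ (h1' w)).trans (map_zero _)
    obtain ⟨b, hb⟩ := 𝓗.exact₃ h.S₂_shortExact _ hw'
    refine ⟨𝓗.sec b, ?_⟩
    rw [← 𝓗.sec_res]
    exact (𝓗.sec_map (norm f) b).symm.trans (congrArg 𝓗.sec hb)
  · rintro ⟨b, hb⟩
    have e : z = 𝓗.map (norm f) (𝓗.sec.symm b) := by
      apply 𝓗.sec.injective
      rw [𝓗.sec_map, AddEquiv.apply_symm_apply, hb]
    have e2 : 𝓗.del h.S₂_shortExact z = 0 := by
      rw [e]
      exact 𝓗.del_map h.S₂_shortExact _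
    rw [e2, map_zero]

end Cyc

end K282.CycSeq
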