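import Groth.Agent.TateGlob.K282.CycSeq2
import Mathlib.FieldTheory.Normal.Closure
import Mathlib.FieldTheory.Galois.Basic
import Mathlib.RingTheory.Etale.Field
import Mathlib.AlgebraicGeometry.Morphisms.Etale

/-!
# Cyclic extensions of fields as cyclic coverings (helper282)
-/

set_option autoImplicit false
universe u
open CategoryTheory CategoryTheory.Limits AlgebraicGeometry TopologicalSpace Opposite

noncomputable section

namespace K282.CycFld

open K282.CycSeq Groth.Agent.Etbase.FinEtSplit

variable (E L : Type u) [Field E] [Field L] [Algebra E L]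

/-- the covering -/
abbrev fld : Spec (CommRingCat.of L) ⟶ Spec (CommRingCat.of E) := Spec.map (CommRingCat.ofHom (algebraMap E L))

variable {E L}

/-- the action -/
abbrev sg (g : L ≃ₐ[E] L) : Spec (CommRingCat.of L) ⟶ Spec (CommRingCat.of L) :=
  Spec.map (CommRingCat.ofHom (g : L →+* L))

theorem sg_fld (g : L ≃ₐ[E] L) : sg g ≫ fld E L = fld E L := by
  rw [← Spec.map_comp, ← CommRingCat.ofHom_comp]
  congr 2
  exact RingHom.ext fun x => g.commutes x

theorem pw_sg (g : L ≃ₐ[E] L) (j : ℕ) : pw (sg g) j = sg (g ^ j) := by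
  induction j with
  | zero =>
    rw [pw, pow_zero]
    have : CommRingCat.ofHom (((1 : L ≃ₐ[E] L) : L →+* L)) = 𝟙 _ := rfl
    rw [sg, this, Spec.map_id]
  | succ j ih =>
    rw [pw, ih, pow_succ, ← Spec.map_comp, ← CommRingCat.ofHom_comp]
    rfl

theorem spec_ext {A B : Type u} [CommRing A] [CommRing B] {a b : A →+* B}
    (h : Spec.map (CommRingCat.ofHom a) = Spec.map (CommRingCat.ofHom b)) : a = b :=
  congrArg CommRingCat.Hom.hom (Spec.map_injective h)

theorem exists_spec {A B : Type u} [CommRing A] [CommRing B] (t : Spec (CommRingCat.of B) ⟶ Spec (CommRingCat.of A)) :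
    ∃ a : A →+* B, t = Spec.map (CommRingCat.ofHom a) :=
  ⟨(Spec.preimage t).hom, by rw [CommRingCat.ofHom_hom, Spec.map_preimage]⟩

/-- A cyclic extension of fields. -/
theorem cyc [FiniteDimensional E L] [IsGalois E L] (g : L ≃ₐ[E] L) (hg : ∀ x, x ∈ Subgroup.zpowers g) :
    Cyc (fld E L) (sg g) (orderOf g) where
  w := sg_fld g
  pos := orderOf_pos g
  pn := by
    rw [pw_sg, pow_orderOf_eq_one]
    have : CommRingCat.ofHom (((1 : L ≃ₐ[E] L) : L →+* L)) = 𝟙 _ := rfl
    rw [sg, this, Spec.map_id]
  split := by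
    refine ⟨fun j => ?_, ?_⟩
    · rw [pw_sg, sg_fld]
    · intro Ω _ _ t ξ h
      obtain ⟨τ, rfl⟩ := exists_spec t
      obtain ⟨ζ, rfl⟩ := exists_spec ξ
      rw [← Spec.map_comp, ← Spec.map_comp, ← CommRingCat.ofHom_comp, ← CommRingCat.ofHom_comp] at h
      have h1 := spec_ext h
      let _ : Algebra L Ω := τ.toAlgebra
      let _ : Algebra E Ω := (τ.comp (algebraMap E L)).toAlgebra
      have _ : IsScalarTower E L Ω := IsScalarTower.of_algebraMap_eq fun _ => rfl
      let ζ' : L →ₐ[E] Ω := { ζ with commutes' := fun x => congrArg (fun k => k x) h1 }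
      let e := Normal.algHomEquivAut E Ω L
      have h2 : ∀ y : L, ζ y = τ (e ζ' y) := by
        intro y
        have := e.symm_apply_apply ζ'
        exact (congrArg (fun k : L →ₐ[E] Ω => k y) this).symm
      have key : ∀ (k : L ≃ₐ[E] L), (∀ y, ζ y = τ (k y)) → k = e ζ' := by
        intro k hk
        ext y
        exact τ.injective ((hk y).symm.trans (h2 y))
      obtain ⟨j, hj⟩ : ∃ j : Fin (orderOf g), g ^ (j : ℕ) = e ζ' := by
        classical
        obtain ⟨j, hj, hj'⟩ := (mem_zpowers_iff_mem_range_orderOf.1 (hg (e ζ')) |> Finset.mem_image.1)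
        exact ⟨⟨j, Finset.mem_range.1 hj⟩, hj'⟩
      refine ⟨j, ?_, ?_⟩
      · change Spec.map (CommRingCat.ofHom ζ) = Spec.map (CommRingCat.ofHom τ) ≫ pw (sg g) j
        rw [pw_sg, hj, ← Spec.map_comp, ← CommRingCat.ofHom_comp]
        congr 2
        exact RingHom.ext h2
      · intro i hi
        change Spec.map (CommRingCat.ofHom ζ) = Spec.map (CommRingCat.ofHom τ) ≫ pw (sg g) i at hi
        rw [pw_sg, ← Spec.map_comp, ← CommRingCat.ofHom_comp] at hi
        have h3 := spec_ext hi
        have h4 := key (g ^ (i : ℕ)) fun y => congrArg (fun k => k y) h3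
        rw [← hj] at h4
        exact Fin.ext (pow_injOn_Iio_orderOf i.2 j.2 h4)

instance [FiniteDimensional E L] : IsFinite (fld E L) := by
  rw [IsFinite.SpecMap_iff]
  exact RingHom.finite_algebraMap.2 inferInstance

instance [FiniteDimensional E L] [Algebra.IsSeparable E L] : Etale (fld E L) := by
  rw [HasRingHomProperty.Spec_iff (P := @Etale)]
  have h1 : Algebra.FormallyEtale E L := Algebra.FormallyEtale.of_isSeparable E L
  have h2 : Algebra.FinitePresentation E L :=
    Algebra.FinitePresentation.of_finiteType.1 (Module.Finite.finiteType L)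
  have h3 : Algebra.Etale E L := ⟨h1, h2⟩
  exact RingHom.etale_algebraMap.2 h3

instance : Surjective (fld E L) := by
  have : Subsingleton (Spec (CommRingCat.of E)) := inferInstanceAs (Subsingleton (PrimeSpectrum E))
  have : Nonempty (Spec (CommRingCat.of L)) := inferInstanceAs (Nonempty (PrimeSpectrum L))
  exact ⟨Function.surjective_to_subsingleton _⟩

end K282.CycFld
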