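import Groth.Agent.TateGlob.K282.GmVan

/-!
# `H¹_fppf(Z, 𝔾_m) = 0` for `Z` discrete (helper282)
-/

set_option autoImplicit false
universe u
open CategoryTheory CategoryTheory.Limits AlgebraicGeometry TopologicalSpace Opposite

noncomputable section

namespace K282.GmVan

open K282.CycSeq (G)

local notation "K" => Scheme.fppfPrecoverage

/-- The restriction of `𝔾_m`. -/
def pullIso {X Y : Scheme.{u}} (g : Y ⟶ X) : (BigSite.pullBig K g AddCommGrpCat.{u + 1}).obj (G X) ≅ G Y :=
  (sheafToPresheaf _ _).preimageIso (Iso.refl _)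

theorem subsingleton_HU {X : Scheme.{u}} (T : Over X) (q : ℕ)
    [Subsingleton (EtCoh.H T.left (EtCoh.Gm T.left) q)] : Subsingleton (BigSite.HU K (G X) q T) := by
  obtain ⟨e⟩ := nonempty_equiv T.left q
  have h1 : Subsingleton (BigSite.H K T.left (G T.left) q) := e.symm.injective.subsingleton
  constructor
  intro x y
  have h2 : Sheaf.H.map (pullIso T.hom).hom q x = Sheaf.H.map (pullIso T.hom).hom q y := h1.elim _ _
  have h3 : ∀ x : BigSite.HU K (G X) q T, Sheaf.H.map (pullIso T.hom).inv q (Sheaf.H.map (pullIso T.hom).hom q x) = x := by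
    intro x
    rw [← Sheaf.H.map_comp_apply, Iso.hom_inv_id, Sheaf.H.map_id_apply]
  rw [← h3 x, h2, h3]

theorem subsingleton_one_of_point {X : Scheme.{u}} (T : Over X) [Subsingleton T.left] [Nonempty T.left] :
    Subsingleton (BigSite.HU K (G X) 1 T) := by
  have : Subsingleton (EtCoh.H T.left (EtCoh.Gm T.left) 1) :=
    Groth.Agent.CurvesA.H1OfPic.subsingleton_H1 fun L hL => Groth.Agent.Sga4h.TameFieldK2.pic_trivial L hL
  exact subsingleton_HU T 1

/-- `H¹(Z, 𝔾_m) = 0` for `Z` discrete. -/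
theorem eq_zero_one {X : Scheme.{u}} (Z : Over X) [DiscreteTopology Z.left] (x : BigSite.HU K (G X) 1 Z) : x = 0 := by
  let O : Z.left → Z.left.Opens := fun z => ⟨{z}, isOpen_discrete _⟩
  let W : Z.left → Over X := fun z => Over.mk ((O z).ι ≫ Z.hom)
  let j : ∀ z, W z ⟶ Z := fun z => Over.homMk (O z).ι
  have hdisj : K828.Cartan.IsDisj K j := by
    refine K828.FppfDisj.isDisj j (fun z => inferInstanceAs (IsOpenImmersion (O z).ι)) (fun z => ?_) ?_
    · exact ⟨z, ⟨z, rfl⟩, rfl⟩
    · intro z z' V a b hab hne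
      constructor
      intro v
      apply hne
      have h1 : (a.left ≫ (O z).ι) v = (b.left ≫ (O z').ι) v := congrArg (fun k => k.left v) hab
      have h2 : (O z).ι (a.left v) = z := (a.left v : O z).2
      have h3 : (O z').ι (b.left v) = z' := (b.left v : O z').2
      rw [Scheme.Hom.comp_apply, Scheme.Hom.comp_apply, h2, h3] at h1
      exact h1
  refine K828.DisjVan.eq_zero (K828.BigCoh.bigCoh K X) hdisj 1 (G X) x fun z => ?_
  have h1 : Subsingleton (W z).left := inferInstanceAs (Subsingleton ({z} : Set Z.left))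
  have h2 : Nonempty (W z).left := ⟨(⟨z, rfl⟩ : ({z} : Set Z.left))⟩
  exact (subsingleton_one_of_point (W z)).elim _ _

theorem discreteTopology {k : Type u} [Field k] {Z : Scheme.{u}} (g : Z ⟶ Spec (CommRingCat.of k)) [IsFinite g] :
    DiscreteTopology Z := by
  have hA : IsAffine Z := isAffine_of_isAffineHom g
  let φ : k →+* Γ(Z, ⊤) := ((Scheme.ΓSpecIso (CommRingCat.of k)).inv ≫ g.appTop).hom
  have h1 : g.appTop.hom.Finite := g.finite_appTop
  have hφ : φ.Finite := by
    have h2 : (Scheme.ΓSpecIso (CommRingCat.of k)).inv.hom.Finite :=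
      RingHom.Finite.of_surjective _ (ConcreteCategory.bijective_of_isIso
        (Scheme.ΓSpecIso (CommRingCat.of k)).inv).2
    exact h1.comp h2
  algebraize [φ]
  have : IsArtinianRing Γ(Z, ⊤) := IsArtinianRing.of_finite k Γ(Z, ⊤)
  have : DiscreteTopology (Spec Γ(Z, ⊤)) := inferInstanceAs (DiscreteTopology (PrimeSpectrum Γ(Z, ⊤)))
  exact Z.isoSpec.hom.homeomorph.symm.discreteTopology

end K282.GmVan
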