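import Groth.Agent.TateGlob.K282.CycFld
import Groth.Prelude.Def_AdFn
import Mathlib.AlgebraicGeometry.Pullbacks

/-!
# The norm `f_* 𝔾_m → 𝔾_m` for `f : Spec L → Spec E` on sections over `Spec A` (helper282)
-/

set_option autoImplicit false
universe u
open CategoryTheory CategoryTheory.Limits AlgebraicGeometry TopologicalSpace Opposite
open scoped TensorProduct

noncomputable section

namespace K282.NormSec

open K282.CycSeq K282.CycFld K778.NormAlg K778.NormSch

local notation "K" => Scheme.fppfPrecoverage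

variable (E L : Type u) [Field E] [Field L] [Algebra E L] (A : Type u) [CommRing A] [Algebra E A]

/-- `Spec A` over `Spec E` -/
abbrev TA : Over (Spec (CommRingCat.of E)) := AdFn.specOf (algebraMap E A)

/-- `A → Γ(Spec A)` -/
def al : CommRingCat.of A ⟶ Γ((TA E A).left, ⊤) := (Scheme.ΓSpecIso (CommRingCat.of A)).inv

/-- `A ⊗ L → Γ(Spec A ×_E Spec L)` -/
def be : CommRingCat.of (A ⊗[E] L) ⟶ Γ(((Over.pullback (fld E L)).obj (TA E A)).left, ⊤) :=
  (Scheme.ΓSpecIso (CommRingCat.of (A ⊗[E] L))).inv ≫ (pullbackSpecIso E A L).hom.appTop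

instance : IsIso (al E A) := inferInstanceAs (IsIso (Scheme.ΓSpecIso (CommRingCat.of A)).inv)

instance : IsIso (be E L A) := by
  have h2 : IsIso (pullbackSpecIso E A L).hom.appTop :=
    inferInstanceAs (IsIso (Scheme.Γ.map (pullbackSpecIso E A L).hom.op))
  exact IsIso.comp_isIso' inferInstance h2

theorem w : CommRingCat.ofHom (algebraMap A (A ⊗[E] L)) ≫ be E L A = al E A ≫ (pr (fld E L) (TA E A)).appTop := by
  have h1 : (pr (fld E L) (TA E A)) = (pullbackSpecIso E A L).hom ≫
      Spec.map (CommRingCat.ofHom (algebraMap A (A ⊗[E] L))) := (pullbackSpecIso_hom_fst' E A L).symm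
  rw [h1, Scheme.Hom.comp_appTop, al, be, ← Category.assoc, ← Category.assoc]
  congr 1
  exact (Scheme.ΓSpecIso_inv_naturality _)

theorem isPushout : IsPushout (CommRingCat.ofHom (algebraMap A (A ⊗[E] L))) (al E A) (be E L A)
    (pr (fld E L) (TA E A)).appTop :=
  IsPushout.of_vert_isIso ⟨w E L A⟩

variable [FiniteDimensional E L]

theorem ff : FF (CommRingCat.ofHom (algebraMap A (A ⊗[E] L))).hom :=
  (ff_iff (A := A) (B := A ⊗[E] L) _ (fun _ => rfl)).2 ⟨inferInstance, inferInstance⟩

theorem good : Good (fld E L) (TA E A) :=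
  ⟨inferInstanceAs (IsAffine (Spec (CommRingCat.of A))), ff_of_isPushout (isPushout E L A) (ff E L A)⟩

variable [Algebra.IsSeparable E L]

theorem N_be (b : A ⊗[E] L) : N (fld E L) (TA E A) ((be E L A).hom b) = (al E A).hom (Algebra.norm A b) := by
  rw [N_of_good (fld E L) (good E L A), nm_of_isPushout (isPushout E L A) (ff E L A)]
  exact congrArg (fun k : (A ⊗[E] L) →* A => (al E A).hom (k b)) (nm_eq (A := A) (B := A ⊗[E] L) _ (fun _ => rfl))

/-- A section of `f_* 𝔾_m` over `Spec A` with norm `c` gives an element of `A ⊗ L` of norm `c`. -/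
theorem exists_of_section (b : (U (fld E L)).obj.obj (op (TA E A))) (z : (G (Spec (CommRingCat.of E))).obj.obj (op (TA E A)))
    (h : (norm (fld E L)).hom.app (op (TA E A)) b = z) (c : A) (hc : fn z = (al E A).hom c) :
    ∃ b' : A ⊗[E] L, Algebra.norm A b' = c := by
  obtain ⟨b', hb'⟩ := (ConcreteCategory.bijective_of_isIso (be E L A)).2 (fU (fld E L) b)
  refine ⟨b', (ConcreteCategory.bijective_of_isIso (al E A)).1 ?_⟩
  change (al E A).hom _ = (al E A).hom _
  change (be E L A).hom b' = _ at hb'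
  rw [← N_be, hb', ← hc, ← h, fn_norm]

/-- Conversely. -/
theorem exists_section (z : (G (Spec (CommRingCat.of E))).obj.obj (op (TA E A))) (c : A) (hc : fn z = (al E A).hom c)
    (b' : A ⊗[E] L) (hb' : Algebra.norm A b' = c) (hu : IsUnit b') :
    ∃ b : (U (fld E L)).obj.obj (op (TA E A)), (norm (fld E L)).hom.app (op (TA E A)) b = z := by
  refine ⟨mk (S := Spec (CommRingCat.of L)) (T := (Over.pullback (fld E L)).obj (TA E A))
    (hu.map (be E L A).hom).unit, ?_⟩
  apply fn_injective
  rw [fn_norm, hc, ← hb', ← N_be]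
  rfl

end K282.NormSec
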