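import Groth.Agent.TateGlob.K282.CycCoh
import Groth.Agent.TateGlob.K282.NormSec
import Groth.Agent.TateGlob.K282.GmVan2
import Groth.Agent.TateGlob.K829.Transport
import Groth.Agent.TateGlob.K827.Abs

/-!
# Norm residue of a class of `H²(E, 𝔾_m)` killed by a cyclic extension (helper282)
-/

set_option autoImplicit false
universe u
open CategoryTheory CategoryTheory.Limits AlgebraicGeometry TopologicalSpace Opposite
open scoped TensorProduct

noncomputable section

namespace K282.CycRes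

open K282.CycSeq K282.CycFld K282.NormSec K778.NormSch

local notation "K" => Scheme.fppfPrecoverage

section general

variable {X X' : Scheme.{u}} (f : X' ⟶ X) [IsFinite f] [Etale f] (𝓗 : K828.CohT K X) (𝓗' : K828.CohT K X')

/-- Vanishing of `H¹(T, f_* 𝔾_m)`. -/
theorem push_eq_zero (n : ℕ) (T : Over X) (h : ∀ w : 𝓗'.H (G X') n ((Over.pullback f).obj T), w = 0)
    (x : 𝓗.H (U f) n T) : x = 0 := by
  obtain ⟨x', hx'⟩ := K829.Transport.transport f 𝓗 𝓗' n (G X') x
  have h1 := hx' T (𝟙 T)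
  rw [𝓗.res_id] at h1
  rw [h1, h x', map_zero]

include 𝓗' in
/-- A class which dies on the covering dies in `f_* 𝔾_m`. -/
theorem map_iota_eq_zero (n : ℕ) {T₀ : Over X} (hT₀ : IsTerminal T₀) (x : 𝓗.H (G X) n T₀)
    (h : 𝓗.res (hT₀.from (Over.mk f)) x = 0) : 𝓗.map (iota f) x = 0 := by
  obtain ⟨x', hx'⟩ := K829.Transport.transport f 𝓗 𝓗' n (G X') (𝓗.map (iota f) x)
  have h1 := (hx' (Over.mk f) (hT₀.from (Over.mk f))).1 (by rw [← 𝓗.map_res, h, map_zero])
  -- a section
  let c := hT₀.from (Over.mk f)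
  let δ : (Over.pullback f).obj T₀ ⟶ (Over.pullback f).obj (Over.mk f) :=
    Over.homMk (pullback.lift (pullback.snd T₀.hom f) (pullback.snd T₀.hom f) rfl) (pullback.lift_snd _ _ _)
  have e1 : δ ≫ (Over.pullback f).map c = 𝟙 _ := by
    ext1
    refine pullback.hom_ext (f := T₀.hom) (g := f) ?_ ?_
    · have h2 := K778.NormSplit.map_left_fst (f := f) c
      have h3 : δ.left ≫ pullback.fst (Over.mk f).hom f = pullback.snd T₀.hom f := pullback.lift_fst _ _ _
      change (δ.left ≫ ((Over.pullback f).map c).left) ≫ pullback.fst T₀.hom f = 𝟙 _ ≫ pullback.fst T₀.hom f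
      rw [Category.assoc, Category.id_comp]
      refine (congrArg (fun k => δ.left ≫ k) h2).trans ?_
      have h4 : δ.left ≫ pullback.fst (Over.mk f).hom f ≫ c.left = pullback.snd T₀.hom f ≫ c.left := by
        rw [← Category.assoc, h3]
      refine h4.trans ?_
      let a : Over.mk (pullback.fst T₀.hom f ≫ T₀.hom) ⟶ T₀ := Over.homMk (pullback.fst T₀.hom f)
      let b : Over.mk (pullback.fst T₀.hom f ≫ T₀.hom) ⟶ T₀ :=
        (Over.homMk (pullback.snd T₀.hom f) pullback.condition.symm :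
          Over.mk (pullback.fst T₀.hom f ≫ T₀.hom) ⟶ Over.mk f) ≫ c
      exact congrArg (fun k => k.left) (hT₀.hom_ext b a)
    · exact Over.w (δ ≫ (Over.pullback f).map c)
  have h5 : x' = 0 := by
    have h6 := congrArg (𝓗'.res δ) h1
    rw [map_zero, ← 𝓗'.res_comp, e1, 𝓗'.res_id] at h6
    exact h6
  have h7 := hx' T₀ (𝟙 T₀)
  rw [𝓗.res_id] at h7
  rw [h7, h5, map_zero]

end general

variable {E L : Type u} [Field E] [Field L] [Algebra E L]

theorem specId (E : Type u) [Field E] :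
    Spec.map (CommRingCat.ofHom (algebraMap E E)) = 𝟙 (Spec (CommRingCat.of E)) := by
  rw [Algebra.algebraMap_self, CommRingCat.ofHom_id, Spec.map_id]

theorem exists_terminal {X Y : Scheme.{u}} (f : Y ⟶ X) [IsIso f] : Nonempty (IsTerminal (Over.mk f)) :=
  ⟨IsTerminal.ofIso Over.mkIdTerminal (Over.isoMk (asIso f) (by simp)).symm⟩

/-- `Spec E` is terminal. -/
theorem terminal (E : Type u) [Field E] : Nonempty (IsTerminal (TA E E)) := by
  have : IsIso (Spec.map (CommRingCat.ofHom (algebraMap E E))) := by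
    rw [specId]
    infer_instance
  exact exists_terminal _

theorem h1_eq_zero [FiniteDimensional E L] [Algebra.IsSeparable E L] (A : Type u) [Field A] [Algebra E A]
    (w : (K828.BigCoh.bigCoh K (Spec (CommRingCat.of E))).H (U (fld E L)) 1 (TA E A)) : w = 0 := by
  refine push_eq_zero (fld E L) _ (K828.BigCoh.bigCoh K (Spec (CommRingCat.of L))) 1 _ (fun w => ?_) w
  have h1 : IsFinite (pr (fld E L) (TA E A)) := inferInstanceAs (IsFinite (pullback.fst (TA E A).hom (fld E L)))
  have h2 : DiscreteTopology ((Over.pullback (fld E L)).obj (TA E A)).left :=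
    GmVan.discreteTopology (k := A) (pr (fld E L) (TA E A))
  exact GmVan.eq_zero_one _ w

/-- The map `Spec A → Spec E` -/
def toE (E A : Type u) [Field E] [Field A] [Algebra E A] : TA E A ⟶ TA E E :=
  AdFn.specOfHom (algebraMap E E) (algebraMap E A) (algebraMap E A) (RingHom.ext fun _ => rfl)

theorem al_toE (A : Type u) [Field A] [Algebra E A] (c : E) :
    (toE E A).left.appTop.hom ((al E E).hom c) = (al E A).hom (algebraMap E A c) := by
  have h := Scheme.ΓSpecIso_inv_naturality (CommRingCat.ofHom (algebraMap E A))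
  exact (congrArg (fun k => k.hom c) h).symm

/-- Norm residue, abstract version. -/
theorem residue_abs [FiniteDimensional E L] [IsGalois E L] (g : L ≃ₐ[E] L) (hg : ∀ x, x ∈ Subgroup.zpowers g)
    (𝓗 : K828.CohT K (Spec (CommRingCat.of E)))
    (h1 : ∀ (A : Type u) [Field A] [Algebra E A] (w : 𝓗.H (U (fld E L)) 1 (TA E A)), w = 0)
    (x₁ : 𝓗.H (G (Spec (CommRingCat.of E))) 2 (TA E E)) (hι : 𝓗.map (iota (fld E L)) x₁ = 0) :
    ∃ c : E, c ≠ 0 ∧ (∀ (A : Type u) [Field A] [Algebra E A], 𝓗.res (toE E A) x₁ = 0 →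
          ∃ b : A ⊗[E] L, Algebra.norm A b = algebraMap E A c) ∧
      ((∃ b : L, Algebra.norm E b = c) → x₁ = 0) := by
  obtain ⟨z, hz1, hz2⟩ := (cyc g hg).exists_residue 𝓗 x₁ hι (h1 E)
  obtain ⟨c, hc⟩ := (ConcreteCategory.bijective_of_isIso (al E E)).2 (fn z)
  have hc' : (al E E).hom c = fn z := hc
  have hc0 : c ≠ 0 := by
    rintro rfl
    have h2 := isUnit_fn z
    rw [← hc', map_zero] at h2
    have h3 : Nontrivial Γ((TA E E).left, ⊤) :=
      (ConcreteCategory.bijective_of_isIso (al E E)).1.nontrivial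
    exact not_isUnit_zero h2
  refine ⟨c, hc0, ?_, ?_⟩
  · intro A _ _ hA
    obtain ⟨b, hb⟩ := hz1 (TA E A) (toE E A) (h1 A) hA
    refine exists_of_section E L A b _ hb _ ?_
    rw [fn_map, ← hc', ← al_toE]
  · rintro ⟨b, hb⟩
    have hb0 : b ≠ 0 := by
      rintro rfl
      rw [Algebra.norm_zero] at hb
      exact hc0 hb.symm
    have h4 : Algebra.norm E ((1 : E) ⊗ₜ[E] b) = c := by
      rw [← hb, ← Algebra.norm_eq_of_algEquiv (Algebra.TensorProduct.lid E L) ((1 : E) ⊗ₜ[E] b)]
      simp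
    have h5 : IsUnit ((1 : E) ⊗ₜ[E] b) :=
      (isUnit_iff_ne_zero.2 hb0).map (Algebra.TensorProduct.includeRight : L →ₐ[E] E ⊗[E] L)
    obtain ⟨b', hb'⟩ := exists_section E L E z c hc'.symm _ h4 h5
    exact hz2 ⟨b', hb'⟩

theorem map_iota_res [FiniteDimensional E L] [Algebra.IsSeparable E L]
    (x : BigSite.H K (Spec (CommRingCat.of E)) (G (Spec (CommRingCat.of E))) 2)
    (hx : HRes.res K (G (Spec (CommRingCat.of E))) 2 (TA E L) x = 0) :
    (K828.BigCoh.bigCoh K (Spec (CommRingCat.of E))).map (iota (fld E L))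
      (HRes.res K (G (Spec (CommRingCat.of E))) 2 (TA E E) x) = 0 := by
  obtain ⟨hT⟩ := terminal E
  exact map_iota_eq_zero (fld E L) (K828.BigCoh.bigCoh K (Spec (CommRingCat.of E)))
    (K828.BigCoh.bigCoh K (Spec (CommRingCat.of L))) 2 hT _
    ((K827.Abs.resHU_res 2 (G (Spec (CommRingCat.of E))) _ x).trans hx)

theorem eq_zero_of_res {X : Scheme.{u}} (F : BigSite.Ab K X) (n : ℕ) {T : Over X} (hT : IsTerminal T)
    (x : BigSite.H K X F n) (h : HRes.res K F n T x = 0) : x = 0 := by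
  apply (K827.Abs.res_id_bijective n F).1
  rw [map_zero, ← K827.Abs.resHU_res n F (hT.from (Over.mk (𝟙 X))) x, h, map_zero]

/-- **Norm residue** of a class of `H²(E, 𝔾_m)` killed by a cyclic extension `L` of `E`. -/
theorem residue [FiniteDimensional E L] [IsGalois E L] (g : L ≃ₐ[E] L) (hg : ∀ x, x ∈ Subgroup.zpowers g)
    (x : BigSite.H K (Spec (CommRingCat.of E)) (G (Spec (CommRingCat.of E))) 2)
    (hx : HRes.res K (G (Spec (CommRingCat.of E))) 2 (TA E L) x = 0) :
    ∃ c : E, c ≠ 0 ∧ (∀ (A : Type u) [Field A] [Algebra E A],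
        HRes.res K (G (Spec (CommRingCat.of E))) 2 (TA E A) x = 0 →
          ∃ b : A ⊗[E] L, Algebra.norm A b = algebraMap E A c) ∧
      ((∃ b : L, Algebra.norm E b = c) → x = 0) := by
  obtain ⟨c, hc0, hc1, hc2⟩ := residue_abs g hg (K828.BigCoh.bigCoh K (Spec (CommRingCat.of E)))
    (fun A _ _ w => h1_eq_zero (L := L) A w) (HRes.res K (G (Spec (CommRingCat.of E))) 2 (TA E E) x)
    (map_iota_res x hx)
  refine ⟨c, hc0, fun A _ _ hA => hc1 A ((K827.Abs.resHU_res 2 (G (Spec (CommRingCat.of E))) _ x).trans hA),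
    fun hb => ?_⟩
  obtain ⟨hT⟩ := terminal E
  exact eq_zero_of_res _ 2 hT x (hc2 hb)

end K282.CycRes
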