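import Groth.Agent.GmDual.K778.DualIso
import Groth.Prelude.Def_EtDlF

/-!
# The sequence `0 → 𝔾_m → f_* 𝔾_m → f_* 𝔾_m → 𝔾_m → 0` of a cyclic Galois covering `f` (helper282)
-/

set_option autoImplicit false
universe u
open CategoryTheory CategoryTheory.Limits AlgebraicGeometry TopologicalSpace Opposite

noncomputable section

namespace K282.CycSeq

open K778.NormAlg K778.NormSch K778.NormSplit K778.ShSec Groth.Agent.Etbase.FinEtSplit
  Groth.Agent.Etbase.FinEtPush K778

local notation "K" => Scheme.fppfPrecoverage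

/-- The sheaf of units. -/
abbrev G (S : Scheme.{u}) : BigSite.Ab K S := EtDl.GmF S

/-- The unit of a section. -/
def un {S : Scheme.{u}} {T : Over S} (x : (G S).obj.obj (op T)) : (Γ(T.left, ⊤))ˣ :=
  Additive.toMul (ULift.down (show ULift.{u + 1} (Additive (Γ(T.left, ⊤))ˣ) from x))

/-- The function of a section. -/
def fn {S : Scheme.{u}} {T : Over S} (x : (G S).obj.obj (op T)) : Γ(T.left, ⊤) := (un x : (Γ(T.left, ⊤))ˣ)

/-- The section of a unit. -/
def mk {S : Scheme.{u}} {T : Over S} (a : (Γ(T.left, ⊤))ˣ) : (G S).obj.obj (op T) :=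
  (show ULift.{u + 1} (Additive (Γ(T.left, ⊤))ˣ) from ULift.up (Additive.ofMul a))

section fn

variable {S : Scheme.{u}} {T V : Over S}

theorem fn_injective : Function.Injective (fn (S := S) (T := T)) := by
  intro x y h
  exact ULift.ext _ _ (Units.ext h : un x = un y)

theorem isUnit_fn (x : (G S).obj.obj (op T)) : IsUnit (fn x) := Units.isUnit (un x)

theorem fn_mk (a : (Γ(T.left, ⊤))ˣ) : fn (mk a : (G S).obj.obj (op T)) = a := rfl

theorem fn_add (x y : (G S).obj.obj (op T)) : fn (x + y) = fn x * fn y := rfl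

theorem fn_zero : fn (0 : (G S).obj.obj (op T)) = 1 := rfl

theorem fn_sum {I : Type*} (s : Finset I) (x : I → (G S).obj.obj (op T)) :
    fn (∑ i ∈ s, x i) = ∏ i ∈ s, fn (x i) := by
  classical
  induction s using Finset.induction_on with
  | empty => simp [fn_zero]
  | insert i s hi ih => rw [Finset.sum_insert hi, Finset.prod_insert hi, fn_add, ih]

theorem fn_map (g : V ⟶ T) (x : (G S).obj.obj (op T)) :
    fn ((G S).obj.map g.op x) = g.left.appTop (fn x) := rfl

end fn

variable {X X' : Scheme.{u}} (f : X' ⟶ X)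

/-- `f_* 𝔾_m`. -/
abbrev U : BigSite.Ab K X := (BigSite.pushBig K f AddCommGrpCat.{u + 1}).obj (G X')

/-- The function of a section of `f_* 𝔾_m`. -/
def fU {T : Over X} (x : (U f).obj.obj (op T)) : Γ(((Over.pullback f).obj T).left, ⊤) :=
  fn (S := X') (T := (Over.pullback f).obj T) x

/-- The map `𝔾_m → f_* 𝔾_m`. -/
def iota : G X ⟶ U f := ⟨Functor.whiskerRight (NatTrans.op (EtDl.pullbackForgetπ f)) EtCoh.ΓUnits.{u}⟩

theorem fU_iota {T : Over X} (x : (G X).obj.obj (op T)) :
    fU f ((iota f).hom.app (op T) x) = (pr f T).appTop (fn x) := rfl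

section sigma

variable {f} {σ : X' ⟶ X'} (hσ : σ ≫ f = f)

/-- `id × σ` on `T ×_X X'`. -/
def sT (T : Over X) : ((Over.pullback f).obj T).left ⟶ ((Over.pullback f).obj T).left :=
  pullback.lift (f := T.hom) (g := f) (pullback.fst T.hom f) (pullback.snd T.hom f ≫ σ) (by
    rw [Category.assoc, hσ, pullback.condition])

theorem sT_fst (T : Over X) : sT hσ T ≫ pullback.fst T.hom f = pullback.fst T.hom f := pullback.lift_fst _ _ _

theorem sT_snd (T : Over X) : sT hσ T ≫ pullback.snd T.hom f = pullback.snd T.hom f ≫ σ := pullback.lift_snd _ _ _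

theorem map_left_snd {V T : Over X} (g : V ⟶ T) :
    ((Over.pullback f).map g).left ≫ pullback.snd T.hom f = pullback.snd V.hom f :=
  Over.w ((Over.pullback f).map g)

theorem sT_nat {V T : Over X} (g : V ⟶ T) :
    ((Over.pullback f).map g).left ≫ sT hσ T = sT hσ V ≫ ((Over.pullback f).map g).left := by
  refine pullback.hom_ext (f := T.hom) (g := f) ?_ ?_
  · have h1 := map_left_fst (f := f) g
    rw [Category.assoc, sT_fst, Category.assoc, h1, ← Category.assoc, sT_fst]
  · rw [Category.assoc, sT_snd, Category.assoc, map_left_snd, ← Category.assoc, map_left_snd, sT_snd]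

/-- `σ` on `f_* 𝔾_m`. -/
def act : U f ⟶ U f := ⟨Functor.whiskerRight (NatTrans.op
  ({ app := fun T => sT hσ T
     naturality := fun _ _ g => sT_nat hσ g } :
      Over.pullback f ⋙ Over.forget X' ⟶ Over.pullback f ⋙ Over.forget X')) EtCoh.ΓUnits.{u}⟩

theorem fU_act {T : Over X} (x : (U f).obj.obj (op T)) :
    fU f ((act hσ).hom.app (op T) x) = (sT hσ T).appTop (fU f x) := rfl

end sigma

section norm

variable [IsFinite f] [Etale f] [IsLocallyNoetherian X]

/-- The norm `f_* 𝔾_m → 𝔾_m`. -/
def norm : U f ⟶ G X :=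
  ⟨{ app := fun T => AddCommGrpCat.ofHom
      { toFun := fun x => mk (T := unop T) (Units.map (NHom f (unop T))
          (un (S := X') (T := (Over.pullback f).obj (unop T)) x))
        map_zero' := by
          apply fn_injective
          exact N_one f (unop T)
        map_add' := fun x y => by
          apply fn_injective
          exact N_mul f (unop T) _ _ }
     naturality := fun T T' g => AddCommGrpCat.ext fun x => by
      apply fn_injective
      exact N_map f g.unop (fn (S := X') (T := (Over.pullback f).obj (unop T)) x) }⟩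

theorem fn_norm {T : Over X} (x : (U f).obj.obj (op T)) :
    fn ((norm f).hom.app (op T) x) = N f T (fU f x) := rfl

end norm

/-! ### Local computations -/

section split

variable {f} {T : Over X} {n : ℕ} {s : Fin n → (T.left ⟶ X')} (h : IsSplit f T.hom s)

/-- component of a section of `f_* 𝔾_m` over a split base -/
def cp {t : T.left ⟶ X'} (ht : t ≫ f = T.hom) (x : (U f).obj.obj (op T)) : Γ(T.left, ⊤) :=
  (cc ht).left.appTop (fU f x)

theorem cp_add {t : T.left ⟶ X'} (ht : t ≫ f = T.hom) (x y : (U f).obj.obj (op T)) :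
    cp ht (x + y) = cp ht x * cp ht y := map_mul _ _ _

theorem cp_iota {t : T.left ⟶ X'} (ht : t ≫ f = T.hom) (x : (G X).obj.obj (op T)) :
    cp ht ((iota f).hom.app (op T) x) = fn x := by
  rw [cp, fU_iota, ← comp_appTop_apply, cc_pr]
  rfl

theorem cp_act {σ : X' ⟶ X'} (hσ : σ ≫ f = f) {t t' : T.left ⟶ X'} (ht : t ≫ f = T.hom) (ht' : t' ≫ f = T.hom)
    (e : t ≫ σ = t') (x : (U f).obj.obj (op T)) : cp ht ((act hσ).hom.app (op T) x) = cp ht' x := by
  subst e
  have key : (cc ht).left ≫ sT hσ T = (cc ht').left := by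
    refine pullback.hom_ext (f := T.hom) (g := f) ?_ ?_
    · rw [Category.assoc, sT_fst]
      exact (cc_pr ht).trans (cc_pr ht').symm
    · rw [Category.assoc, sT_snd, ← Category.assoc]
      have h1 : (cc ht).left ≫ pullback.snd T.hom f = t := Over.w (cc ht)
      have h2 : (cc ht').left ≫ pullback.snd T.hom f = t ≫ σ := Over.w (cc ht')
      rw [h2, h1]
  rw [cp, fU_act, ← comp_appTop_apply, cp, key]

include h in
theorem ext_cp [IsFinite f] [Etale f] {x y : (U f).obj.obj (op T)} (hxy : ∀ i, cp (h.w i) x = cp (h.w i) y) : x = y := by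
  have h1 : fU f x = fU f y := (bijective_cc h).1 (funext hxy)
  exact fn_injective h1

include h in
theorem exists_cp [IsFinite f] [Etale f] (a : Fin n → (Γ(T.left, ⊤))ˣ) :
    ∃ x : (U f).obj.obj (op T), ∀ i, cp (h.w i) x = a i := by
  obtain ⟨b, hb⟩ := (bijective_cc h).2 (fun i => (a i : Γ(T.left, ⊤)))
  obtain ⟨b', hb'⟩ := (bijective_cc h).2 (fun i => ((a i)⁻¹ : (Γ(T.left, ⊤))ˣ).1)
  have h1 : b * b' = 1 := by
    apply (bijective_cc h).1
    funext i
    dsimp only
    rw [map_mul, map_one]
    have e1 := congrFun hb i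
    have e2 := congrFun hb' i
    dsimp only at e1 e2
    rw [e1, e2]
    exact (a i).mul_inv
  refine ⟨mk (S := X') (T := (Over.pullback f).obj T) ⟨b, b', h1, (mul_comm _ _).trans h1⟩, fun i => ?_⟩
  exact congrFun hb i

include h in
theorem fn_norm_split [IsFinite f] [Etale f] [IsLocallyNoetherian X] (x : (U f).obj.obj (op T)) :
    fn ((norm f).hom.app (op T) x) = ∏ i, cp (h.w i) x := by
  rw [fn_norm, N_eq_iff]
  exact DualNorm.isNm_prod h _

end split

/-! ### Passing to the covering -/

section cover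

variable [Flat f] [LocallyOfFinitePresentation f] [Surjective f]

/-- The object `T ×_X X'` over `X`. -/
def covT (T : Over X) : Over X := Over.mk (pullback.fst T.hom f ≫ T.hom)

/-- its map to `T` -/
def covπ (T : Over X) : covT f T ⟶ T := Over.homMk (pullback.fst T.hom f)

/-- its map to `X'` -/
def covS (T : Over X) : (covT f T).left ⟶ X' := pullback.snd T.hom f

omit [Flat f] [LocallyOfFinitePresentation f] [Surjective f] in
theorem covS_comp (T : Over X) : covS f T ≫ f = (covT f T).hom := pullback.condition.symm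

theorem mem_J (T : Over X) :
    Sieve.generate (Presieve.ofArrows (fun _ : PUnit.{1} => covT f T) (fun _ => covπ f T)) ∈ QuotSh.J K X T := by
  have h1 : Flat (covπ f T).left := inferInstanceAs (Flat (pullback.fst T.hom f))
  have h2 : LocallyOfFinitePresentation (covπ f T).left :=
    inferInstanceAs (LocallyOfFinitePresentation (pullback.fst T.hom f))
  have h3 : Surjective (covπ f T).left := inferInstanceAs (Surjective (pullback.fst T.hom f))
  have h1' : ∀ _ : PUnit.{1}, Flat (covπ f T).left := fun _ => h1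
  have h2' : ∀ _ : PUnit.{1}, LocallyOfFinitePresentation (covπ f T).left := fun _ => h2
  exact DisjSh.mem_J (fun _ : PUnit.{1} => covT f T) (fun _ => covπ f T) (fun y => ⟨⟨⟩, h3.surj y⟩)

theorem epi_of_local {A B : BigSite.Ab K X} (φ : A ⟶ B)
    (H : ∀ (T : Over X) (t : T.left ⟶ X') (_ : t ≫ f = T.hom) (b : B.obj.obj (op T)),
      ∃ a : A.obj.obj (op T), φ.hom.app (op T) a = b) : Epi φ := by
  refine K731.Basic.epi_of_exists_lift φ fun T b => ⟨_, mem_J f T, ?_⟩
  rintro Y g ⟨Z, a, c, hc, rfl⟩
  obtain ⟨⟩ := hc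
  refine H _ (a.left ≫ covS f T) ?_ _
  rw [Category.assoc, covS_comp, Over.w a]

theorem mono_of_local {A B : BigSite.Ab K X} (φ : A ⟶ B)
    (H : ∀ (T : Over X) (t : T.left ⟶ X') (_ : t ≫ f = T.hom) (a : A.obj.obj (op T)),
      φ.hom.app (op T) a = 0 → a = 0) : Mono φ := by
  refine K731.Basic.mono_of_injective φ ?_
  rintro ⟨T⟩
  rw [injective_iff_map_eq_zero]
  intro a ha
  have h1 : Flat (covπ f T).left := inferInstanceAs (Flat (pullback.fst T.hom f))
  have h2 : LocallyOfFinitePresentation (covπ f T).left :=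
    inferInstanceAs (LocallyOfFinitePresentation (pullback.fst T.hom f))
  have h3 : Surjective (covπ f T).left := inferInstanceAs (Surjective (pullback.fst T.hom f))
  have h1' : ∀ _ : PUnit.{1}, Flat (covπ f T).left := fun _ => h1
  have h2' : ∀ _ : PUnit.{1}, LocallyOfFinitePresentation (covπ f T).left := fun _ => h2
  refine DisjSh.ext_of_cover A (fun _ : PUnit.{1} => covT f T) (fun _ => covπ f T) (fun y => ⟨⟨⟩, h3.surj y⟩) a 0
    fun _ => ?_
  rw [map_zero]
  refine H _ (covS f T) (covS_comp f T) _ ?_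
  have e1 := ConcreteCategory.congr_hom (φ.hom.naturality (covπ f T).op) a
  refine e1.trans ?_
  exact (congrArg (B.obj.map (covπ f T).op) ha).trans (map_zero _)

theorem exact_of_local (C : ShortComplex (BigSite.Ab K X))
    (H : ∀ (T : Over X) (t : T.left ⟶ X') (_ : t ≫ f = T.hom) (x : C.X₂.obj.obj (op T)),
      C.g.hom.app _ x = 0 → ∃ a, C.f.hom.app _ a = x) : C.Exact := by
  rw [C.exact_iff_epi_toCycles]
  refine epi_of_local f _ fun T t ht b => ?_
  have h0 : C.g.hom.app _ (C.iCycles.hom.app _ b) = 0 := by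
    have := C.iCycles_g
    have h1 : (C.iCycles ≫ C.g).hom.app (op T) b = 0 := by
      rw [this]; rfl
    exact h1
  obtain ⟨a, ha⟩ := H T t ht _ h0
  refine ⟨a, K731.Basic.injective_of_mono C.iCycles _ ?_⟩
  rw [← ha]
  have h2 : (C.toCycles ≫ C.iCycles).hom.app (op T) a = C.f.hom.app (op T) a := by
    rw [C.toCycles_i]
  exact h2

end cover

end K282.CycSeq
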