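import Groth.Agent.TateGlob.K282.CycSeq

/-!
# Exactness of `0 → 𝔾_m → f_* 𝔾_m → f_* 𝔾_m → 𝔾_m → 0` for a cyclic Galois covering `f` (helper282)
-/

set_option autoImplicit false
universe u
open CategoryTheory CategoryTheory.Limits AlgebraicGeometry TopologicalSpace Opposite

noncomputable section

namespace K282.CycSeq

open K778.NormAlg K778.NormSch K778.NormSplit K778.ShSec Groth.Agent.Etbase.FinEtSplit
  Groth.Agent.Etbase.FinEtPush K778

local notation "K" => Scheme.fppfPrecoverage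

variable {X X' : Scheme.{u}}

/-- iterates -/
def pw (σ : X' ⟶ X') : ℕ → (X' ⟶ X')
  | 0 => 𝟙 X'
  | n + 1 => pw σ n ≫ σ

/-- `f` is a Galois covering with group generated by `σ`, of order `n`. -/
structure Cyc (f : X' ⟶ X) (σ : X' ⟶ X') (n : ℕ) : Prop where
  w : σ ≫ f = f
  pos : 0 < n
  pn : pw σ n = 𝟙 X'
  split : IsSplit f f (fun j : Fin n => pw σ j)

variable {f : X' ⟶ X} {σ : X' ⟶ X'} {n : ℕ}

theorem pw_comp (hw : σ ≫ f = f) (j : ℕ) : pw σ j ≫ f = f := by
  induction j with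
  | zero => rw [pw, Category.id_comp]
  | succ j ih => rw [pw, Category.assoc, hw, ih]

namespace Cyc

variable (h : Cyc f σ n) {T : Over X} {t : T.left ⟶ X'} (ht : t ≫ f = T.hom)

include h ht in
theorem splitT : IsSplit f T.hom (fun j : Fin n => t ≫ CycSeq.pw σ j) := by
  have := h.split.comp t
  rw [ht] at this
  exact this

include h ht in
theorem wT (j : ℕ) : (t ≫ CycSeq.pw σ j) ≫ f = T.hom := by
  rw [Category.assoc, pw_comp h.w, ht]

/-- components -/
def cj (j : ℕ) (x : (U f).obj.obj (op T)) : Γ(T.left, ⊤) := cp (h.wT ht j) x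

theorem cj_add (j : ℕ) (x y : (U f).obj.obj (op T)) : h.cj ht j (x + y) = h.cj ht j x * h.cj ht j y := cp_add _ _ _

theorem isUnit_cj (j : ℕ) (x : (U f).obj.obj (op T)) : IsUnit (h.cj ht j x) :=
  (isUnit_fn (S := X') (T := (Over.pullback f).obj T) x).map _

theorem cj_n (x : (U f).obj.obj (op T)) : h.cj ht n x = h.cj ht 0 x := by
  have e : t ≫ CycSeq.pw σ n = t ≫ CycSeq.pw σ 0 := by rw [h.pn]; rfl
  have key : ∀ (a b : T.left ⟶ X') (ha : a ≫ f = T.hom) (hb : b ≫ f = T.hom), a = b → cp ha x = cp hb x := by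
    rintro a _ ha hb rfl
    rfl
  exact key _ _ _ _ e

theorem cj_act (j : ℕ) (x : (U f).obj.obj (op T)) :
    h.cj ht j ((act h.w).hom.app (op T) x) = h.cj ht (j + 1) x :=
  cp_act h.w _ _ (by rw [CycSeq.pw, Category.assoc]) x

theorem cj_iota (j : ℕ) (x : (G X).obj.obj (op T)) : h.cj ht j ((iota f).hom.app (op T) x) = fn x := cp_iota _ x

/-- `σ - 1` -/
def D : U f ⟶ U f := act h.w - 𝟙 _

theorem cj_D (j : ℕ) (x : (U f).obj.obj (op T)) :
    h.cj ht j (h.D.hom.app (op T) x) * h.cj ht j x = h.cj ht (j + 1) x := by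
  rw [← cj_add, ← cj_act]
  congr 1
  have e : h.D.hom.app (op T) x = (act h.w).hom.app (op T) x - x := rfl
  rw [e, sub_add_cancel]

variable [IsFinite f] [Etale f]

theorem ext_cj {x y : (U f).obj.obj (op T)} (hxy : ∀ j, j < n → h.cj ht j x = h.cj ht j y) : x = y :=
  ext_cp (h.splitT ht) (fun i => hxy i i.2)

theorem exists_cj (a : ℕ → (Γ(T.left, ⊤))ˣ) :
    ∃ x : (U f).obj.obj (op T), ∀ j, j < n → h.cj ht j x = a j := by
  obtain ⟨x, hx⟩ := exists_cp (h.splitT ht) (fun i => a i)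
  exact ⟨x, fun j hj => hx ⟨j, hj⟩⟩

variable [IsLocallyNoetherian X]

theorem fn_norm (x : (U f).obj.obj (op T)) :
    fn ((norm f).hom.app (op T) x) = ∏ j ∈ Finset.range n, h.cj ht j x := by
  rw [fn_norm_split (h.splitT ht), Finset.prod_range]
  rfl

variable [Surjective f]

omit [IsFinite f] [Etale f] [IsLocallyNoetherian X] in
theorem hom_ext_local [Flat f] [LocallyOfFinitePresentation f] {A B : BigSite.Ab K X} (φ : A ⟶ B)
    (H : ∀ (T : Over X) (t : T.left ⟶ X') (_ : t ≫ f = T.hom) (a : A.obj.obj (op T)),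
      φ.hom.app (op T) a = 0) : φ = 0 := by
  have h1 : Mono (kernel.ι φ) := inferInstance
  have h2 : Epi (kernel.ι φ) := by
    refine epi_of_local f _ fun T t ht b => ?_
    have hS := ShortComplex.exact_kernel φ
    obtain ⟨a, ha⟩ := K731.Basic.exists_of_exact_of_mono _ hS b (H T t ht b)
    exact ⟨a, ha⟩
  rw [← cancel_epi (kernel.ι φ), kernel.condition, comp_zero]

include h in
omit [IsLocallyNoetherian X] in
theorem iota_D : iota f ≫ h.D = 0 := by
  refine hom_ext_local (f := f) _ fun T t ht x => ?_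
  refine h.ext_cj ht fun j _ => ?_
  have e1 := h.cj_D ht j ((iota f).hom.app (op T) x)
  rw [cj_iota, cj_iota] at e1
  have e2 : h.cj ht j (0 : (U f).obj.obj (op T)) = 1 := map_one (cc (h.wT ht j)).left.appTop.hom
  rw [e2]
  exact (IsUnit.mul_eq_right (isUnit_fn x)).1 e1

theorem D_norm : h.D ≫ norm f = 0 := by
  refine hom_ext_local (f := f) _ fun T t ht x => ?_
  apply fn_injective
  change fn ((norm f).hom.app (op T) (h.D.hom.app (op T) x)) = fn (0 : (G X).obj.obj (op T))
  rw [h.fn_norm ht, fn_zero]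
  have e1 : (∏ j ∈ Finset.range n, h.cj ht j (h.D.hom.app (op T) x)) * ∏ j ∈ Finset.range n, h.cj ht j x =
      ∏ j ∈ Finset.range n, h.cj ht j x := by
    rw [← Finset.prod_mul_distrib, Finset.prod_congr rfl fun j _ => h.cj_D ht j x]
    have e2 := (Finset.prod_range_succ (fun j => h.cj ht j x) n).symm.trans
      (Finset.prod_range_succ' (fun j => h.cj ht j x) n)
    rw [h.cj_n ht] at e2
    exact ((IsUnit.mul_left_inj (h.isUnit_cj ht 0 x)).1 e2).symm
  have e3 : IsUnit (∏ j ∈ Finset.range n, h.cj ht j x) := by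
    rw [← h.fn_norm ht]
    exact isUnit_fn _
  exact (IsUnit.mul_eq_right e3).1 e1

omit [IsLocallyNoetherian X] [IsFinite f] in
include h in
theorem mono_iota : Mono (iota f) := by
  refine mono_of_local f _ fun T t ht a ha => ?_
  apply fn_injective
  rw [fn_zero, ← h.cj_iota ht 0 a, ha]
  exact map_one (cc (h.wT ht 0)).left.appTop.hom

include h in
theorem epi_norm : Epi (norm f) := by
  refine epi_of_local f _ fun T t ht b => ?_
  obtain ⟨x, hx⟩ := h.exists_cj ht (fun j => if j = 0 then un b else 1)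
  refine ⟨x, ?_⟩
  apply fn_injective
  rw [h.fn_norm ht, Finset.prod_eq_single 0]
  · rw [hx 0 h.pos, if_pos rfl]
    rfl
  · intro j hj hj0
    rw [hx j (Finset.mem_range.1 hj), if_neg hj0]
    rfl
  · intro h0
    exact absurd (Finset.mem_range.2 h.pos) h0

omit [IsLocallyNoetherian X] in
theorem exact_one : (ShortComplex.mk (iota f) h.D h.iota_D).Exact := by
  refine exact_of_local f _ fun T t ht x hx => ?_
  change h.D.hom.app (op T) x = 0 at hx
  have e1 : ∀ j, h.cj ht (j + 1) x = h.cj ht j x := by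
    intro j
    rw [← h.cj_D ht j x, hx]
    have e2 : h.cj ht j (0 : (U f).obj.obj (op T)) = 1 := map_one (cc (h.wT ht j)).left.appTop.hom
    rw [e2, one_mul]
  have e3 : ∀ j, h.cj ht j x = h.cj ht 0 x := by
    intro j
    induction j with
    | zero => rfl
    | succ j ih => rw [e1, ih]
  refine ⟨CycSeq.mk (h.isUnit_cj ht 0 x).unit, h.ext_cj ht fun j _ => ?_⟩
  change h.cj ht j ((iota f).hom.app (op T) _) = _
  rw [cj_iota]
  exact (e3 j).symm

theorem exact_two : (ShortComplex.mk h.D (norm f) h.D_norm).Exact := by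
  refine exact_of_local f _ fun T t ht x hx => ?_
  change (norm f).hom.app (op T) x = 0 at hx
  have e0 : ∏ j ∈ Finset.range n, h.cj ht j x = 1 := by
    rw [← h.fn_norm ht, hx, fn_zero]
  obtain ⟨y, hy⟩ := h.exists_cj ht (fun j => ∏ i ∈ Finset.range j, (h.isUnit_cj ht i x).unit)
  have hy' : ∀ j, j < n → h.cj ht j y = ∏ i ∈ Finset.range j, h.cj ht i x := by
    intro j hj
    rw [hy j hj, Units.coe_prod]
    rfl
  have hy2 : ∀ j, j < n → h.cj ht (j + 1) y = ∏ i ∈ Finset.range (j + 1), h.cj ht i x := by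
    intro j hj
    rcases Nat.lt_or_ge (j + 1) n with h1 | h1
    · exact hy' _ h1
    · have h2 : j + 1 = n := le_antisymm hj h1
      rw [h2, e0, h.cj_n ht, hy' 0 h.pos, Finset.prod_range_zero]
  refine ⟨y, h.ext_cj ht fun j hj => ?_⟩
  change h.cj ht j (h.D.hom.app (op T) y) = _
  have e1 := h.cj_D ht j y
  rw [hy2 j hj, Finset.prod_range_succ, ← hy' j hj, mul_comm] at e1
  exact (IsUnit.mul_right_inj (h.isUnit_cj ht j y)).1 e1

end Cyc

end K282.CycSeq
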