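import Groth.Agent.FunFld.K660.Places
import Mathlib.RingTheory.AlgebraicIndependent.TranscendenceBasis
import Mathlib.FieldTheory.AlgebraicClosure
import Mathlib.FieldTheory.IsAlgClosed.AlgebraicClosure
import Mathlib.FieldTheory.Finite.GaloisField
import Mathlib.FieldTheory.SplittingField.Construction
import Mathlib.FieldTheory.Galois.Basic

/-!
# Constant extensions of a global function field (helper282)
-/

set_option autoImplicit false
universe u

noncomputable section

open IntermediateField Polynomial

namespace K282.FldInf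

variable (k E : Type u) [Field k] [Field E] [Algebra k E]

/-- the algebraic closure of `k` in the algebraic closure of `E` -/
abbrev kb : IntermediateField k (AlgebraicClosure E) := algebraicClosure k (AlgebraicClosure E)

/-- `E k̄` -/
abbrev Einf : IntermediateField E (AlgebraicClosure E) := IntermediateField.adjoin E (kb k E : Set (AlgebraicClosure E))

instance : IsAlgClosed (kb k E) := IsAlgClosure.isAlgClosed k

/-- `k̄ → E k̄` -/
def incl : kb k E →+* Einf k E where
  toFun x := ⟨x.1, IntermediateField.subset_adjoin E _ x.2⟩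
  map_one' := rfl
  map_mul' _ _ := rfl
  map_zero' := rfl
  map_add' _ _ := rfl

instance : Algebra (kb k E) (Einf k E) := (incl k E).toAlgebra

instance : IsScalarTower k (kb k E) (Einf k E) := IsScalarTower.of_algebraMap_eq fun x => Subtype.ext (by
  change algebraMap k (AlgebraicClosure E) x = algebraMap k (AlgebraicClosure E) x
  rfl)

instance : Algebra.IsAlgebraic E (Einf k E) := inferInstance

instance : Algebra.IsAlgebraic k (kb k E) := inferInstance

theorem trdeg_inf (h : Algebra.trdeg k E = 1) : Algebra.trdeg (kb k E) (Einf k E) = 1 := by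
  have h1 := trdeg_add_eq k E (A := Einf k E)
  have h2 := trdeg_add_eq k (kb k E) (A := Einf k E)
  rw [trdeg_eq_zero (R := E) (A := Einf k E), add_zero, h] at h1
  rw [trdeg_eq_zero (R := k) (A := kb k E), zero_add, ← h1] at h2
  exact h2

open scoped IntermediateField.algebraAdjoinAdjoin in
theorem trdeg_of_isGen {t : E} (ht : K660.Places.IsGen k E t) : Algebra.trdeg k E = 1 := by
  have h1 : AlgebraicIndependent k ![t] := algebraicIndependent_iff_transcendental.2 ht.tr
  have hr : Set.range ![t] = {t} := by simp
  have hF := ht.fin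
  have h0 : Algebra.IsAlgebraic (IntermediateField.adjoin k {t}) E := inferInstance
  have h2 : Algebra.IsAlgebraic (Algebra.adjoin k (Set.range ![t])) E := by
    rw [hr]
    exact (IsFractionRing.comap_isAlgebraic_iff (A := Algebra.adjoin k {t}) (K := IntermediateField.adjoin k {t})
      (C := E)).2 h0
  have h3 := h1.isTranscendenceBasis_iff_isAlgebraic.2 h2
  have h4 := h3.lift_cardinalMk_eq_trdeg
  simpa using h4.symm

section const

variable {k E}
variable [Finite k] (c : Finset (AlgebraicClosure E)) (hc : ∀ x ∈ c, x ∈ kb k E)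

variable (k) in
/-- the finite field generated by `c` -/
abbrev kc : IntermediateField k (AlgebraicClosure E) := IntermediateField.adjoin k (c : Set (AlgebraicClosure E))

variable (k) in
/-- the constant extension generated by `c` -/
abbrev Lc : IntermediateField E (AlgebraicClosure E) :=
  IntermediateField.adjoin E (kc k c : Set (AlgebraicClosure E))

include hc in
theorem finite_kc : Finite (kc k c) := by
  have : FiniteDimensional k (kc k c) := finiteDimensional_adjoin fun x hx =>
    (mem_algebraicClosure_iff.1 (hc x hx)).isIntegral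
  exact Module.finite_of_finite k

/-- the defining polynomial -/
abbrev pol (N : ℕ) : E[X] := X ^ N - X

omit [Finite k] in
theorem rootSet_eq [Finite (kc k c)] : (pol (E := E) (Nat.card (kc k c))).rootSet (AlgebraicClosure E) = kc k c := by
  classical
  have := Fintype.ofFinite (kc k c)
  have hN : 1 < Nat.card (kc k c) := Finite.one_lt_card
  have h0 : pol (E := E) (Nat.card (kc k c)) ≠ 0 := FiniteField.X_pow_card_sub_X_ne_zero E hN
  have h1 : (kc k c : Set (AlgebraicClosure E)) ⊆ (pol (E := E) (Nat.card (kc k c))).rootSet (AlgebraicClosure E) := by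
    intro x hx
    rw [mem_rootSet]
    refine ⟨h0, ?_⟩
    have h2 : (⟨x, hx⟩ : kc k c) ^ Nat.card (kc k c) = ⟨x, hx⟩ := by
      rw [Nat.card_eq_fintype_card]
      exact FiniteField.pow_card _
    have h3 := congrArg Subtype.val h2
    simp only [pol, map_sub, map_pow, aeval_X, sub_eq_zero]
    exact h3
  refine (Set.eq_of_subset_of_ncard_le h1 ?_ (rootSet_finite _ _)).symm
  have h4 : ((pol (E := E) (Nat.card (kc k c))).rootSet (AlgebraicClosure E)).ncard ≤
      (pol (E := E) (Nat.card (kc k c))).natDegree := by
    rw [rootSet, Set.ncard_coe_finset]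
    refine (Multiset.toFinset_card_le _).trans ((card_roots' _).trans ?_)
    exact natDegree_map_le
  refine h4.trans ?_
  rw [FiniteField.X_pow_card_sub_X_natDegree_eq E hN]
  exact le_of_eq (Nat.card_coe_set_eq _)

include hc in
theorem isGalois : IsGalois E (Lc k c) := by
  have := finite_kc c hc
  have hs : (pol (E := E) (Nat.card (kc k c))).IsSplittingField E (Lc k c) := by
    have h1 := IntermediateField.adjoin_rootSet_isSplittingField (K := E) (L := AlgebraicClosure E)
      (p := pol (E := E) (Nat.card (kc k c))) (IsAlgClosed.splits _)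
    rw [rootSet_eq] at h1
    exact h1
  obtain ⟨p, hp⟩ := CharP.exists (kc k c)
  have hp' : Fact p.Prime := ⟨CharP.char_is_prime (kc k c) p⟩
  have h2 : p ∣ Nat.card (kc k c) := by
    have := Fintype.ofFinite (kc k c)
    obtain ⟨n, -, hn⟩ := FiniteField.card (kc k c) p
    rw [Nat.card_eq_fintype_card, hn]
    exact dvd_pow_self _ n.ne_zero
  have h3 : CharP E p := by
    have h4 : CharP (AlgebraicClosure E) p := (RingHom.charP_iff (algebraMap (kc k c) (AlgebraicClosure E))
      (algebraMap (kc k c) (AlgebraicClosure E)).injective p).1 hp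
    exact (RingHom.charP_iff (algebraMap E (AlgebraicClosure E)) (algebraMap E (AlgebraicClosure E)).injective p).2 h4
  exact IsGalois.of_separable_splitting_field (galois_poly_separable p _ h2)

variable (k) in
/-- `k_c → E k_c` -/
def inclc : kc k c →+* Lc k c where
  toFun x := ⟨x.1, IntermediateField.subset_adjoin E _ x.2⟩
  map_one' := rfl
  map_mul' _ _ := rfl
  map_zero' := rfl
  map_add' _ _ := rfl

include hc in
theorem isCyclic : IsCyclic (Lc k c ≃ₐ[E] Lc k c) := by
  have := finite_kc c hc
  let _ : Algebra (kc k c) (Lc k c) := (inclc k c).toAlgebra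
  have _ : IsScalarTower k (kc k c) (Lc k c) := IsScalarTower.of_algebraMap_eq fun x => Subtype.ext rfl
  have hn : IsGalois k (kc k c) := inferInstance
  let r : (Lc k c ≃ₐ[E] Lc k c) →* (kc k c ≃ₐ[k] kc k c) :=
    (AlgEquiv.restrictNormalHom (F := k) (K₁ := Lc k c) (kc k c)).comp (AlgEquiv.restrictScalarsHom k)
  refine isCyclic_of_injective r ?_
  rw [injective_iff_map_eq_one]
  intro g hg
  have h1 : ∀ x : kc k c, g (algebraMap (kc k c) (Lc k c) x) = algebraMap (kc k c) (Lc k c) x := by
    intro x
    have h2 := AlgEquiv.restrictNormal_commutes (AlgEquiv.restrictScalars k g) (kc k c) x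
    have h3 : (AlgEquiv.restrictScalars k g).restrictNormal (kc k c) = 1 := hg
    rw [h3] at h2
    exact h2.symm
  have h4 : (g : Lc k c →ₐ[E] Lc k c) = AlgHom.id E (Lc k c) :=
    IntermediateField.algHom_ext_of_eq_adjoin _ (s := (kc k c : Set (AlgebraicClosure E))) rfl fun x hx => h1 ⟨x, hx⟩
  ext x
  exact congrArg Subtype.val (congrArg (fun f : Lc k c →ₐ[E] Lc k c => f x) h4)

include hc in
theorem adjoin_eq_top : Algebra.adjoin E {x : Lc k c | IsAlgebraic k x} = ⊤ := by
  have h0 : ∀ x ∈ (kc k c : Set (AlgebraicClosure E)), IsAlgebraic E x := fun x _ => Algebra.IsAlgebraic.isAlgebraic x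
  rw [eq_top_iff]
  intro x _
  have h1 : x.1 ∈ Algebra.adjoin E (kc k c : Set (AlgebraicClosure E)) := by
    rw [← adjoin_toSubalgebra_of_isAlgebraic h0]
    exact x.2
  have h2 : Algebra.adjoin E (kc k c : Set (AlgebraicClosure E)) ≤
      (Algebra.adjoin E {x : Lc k c | IsAlgebraic k x}).map (Lc k c).val := by
    rw [Algebra.adjoin_le_iff]
    intro y hy
    refine ⟨⟨y, IntermediateField.subset_adjoin E _ hy⟩, Algebra.subset_adjoin ?_, rfl⟩
    have := finite_kc c hc
    have h3 : IsAlgebraic k (⟨y, hy⟩ : kc k c) := Algebra.IsAlgebraic.isAlgebraic _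
    have h4 : IsAlgebraic k y := h3.algebraMap (A := AlgebraicClosure E)
    have _ : IsScalarTower k (Lc k c) (AlgebraicClosure E) := IsScalarTower.of_algebraMap_eq fun x => rfl
    exact (isAlgebraic_algebraMap_iff (R := k) (S := Lc k c) (A := AlgebraicClosure E)
      (a := (⟨y, IntermediateField.subset_adjoin E _ hy⟩ : Lc k c)) Subtype.val_injective).1 h4
  obtain ⟨y, hy, hxy⟩ := h2 h1
  have : y = x := Subtype.ext hxy
  rwa [← this]

include hc in
theorem finiteDimensional_Lc : FiniteDimensional E (Lc k c) := by
  have := finite_kc c hc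
  have h1 : Finite (kc k c : Set (AlgebraicClosure E)) := this
  exact finiteDimensional_adjoin fun x _ => (Algebra.IsAlgebraic.isAlgebraic x).isIntegral

end const

variable {k E} in
/-- Finitely many elements of `E k̄` lie in a cyclic constant extension. -/
theorem exists_const [Finite k] (s : Finset (AlgebraicClosure E)) (hs : ∀ y ∈ s, y ∈ Einf k E) :
    ∃ c : Finset (AlgebraicClosure E), (∀ x ∈ c, x ∈ kb k E) ∧ ∀ y ∈ s, y ∈ Lc k c := by
  classical
  have h : ∀ y : s, ∃ T : Finset (AlgebraicClosure E), (T : Set (AlgebraicClosure E)) ⊆ kb k E ∧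
      y.1 ∈ IntermediateField.adjoin E (T : Set (AlgebraicClosure E)) := fun y =>
    exists_finset_of_mem_adjoin (hs y.1 y.2)
  choose T hT hT' using h
  refine ⟨Finset.univ.biUnion T, fun x hx => ?_, fun y hy => ?_⟩
  · obtain ⟨y, -, hy⟩ := Finset.mem_biUnion.1 hx
    exact hT y hy
  · refine IntermediateField.adjoin.mono E _ _ ?_ (hT' ⟨y, hy⟩)
    intro x hx
    exact IntermediateField.subset_adjoin k _ (Finset.mem_biUnion.2 ⟨_, Finset.mem_univ _, hx⟩)

end K282.FldInf
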