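import Groth.Agent.TateGlob.K282.FldInf
import Groth.Agent.TateGlob.K282.CycRes
import Groth.Agent.TateGlob.K828.LpPts
import Groth.Agent.TateLoc.K810.GmIso
import Groth.Agent.Sga3B.TorusAlgClosed
import Groth.Agent.GaDual.K986.DieFin
import Groth.Agent.S0229

/-!
# Classes of `H²(E, 𝔾_m)` die on a finite cyclic constant extension (helper282)
-/

set_option autoImplicit false
universe u
open CategoryTheory CategoryTheory.Limits AlgebraicGeometry TopologicalSpace Opposite

noncomputable section

namespace K282.Kill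

open K282.CycSeq (G)
open K282.NormSec (TA)
open K282.FldInf K828.LPre

local notation "K" => Scheme.fppfPrecoverage

set_option backward.isDefEq.respectTransparency.types false in
theorem smooth_gm (S : Scheme.{u}) : Smooth (Red.Gm S).hom := by
  have h1 : Smooth (Red.diag (ULift.{u} ℤ) ℤ).hom := Groth.Agent.Sga3B.TorusAlgClosed.diag_smooth ℤ
  exact MorphismProperty.pullback_snd _ _ h1

theorem lp_of_iso {S : Scheme.{u}} {P Q : (Over S)ᵒᵖ ⥤ AddCommGrpCat.{u + 1}} (e : P ≅ Q) (h : LP P) : LP Q := by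
  have hnat : ∀ {T T' : (Over S)ᵒᵖ} (f : T ⟶ T') (x : P.obj T), e.hom.app T' (P.map f x) = Q.map f (e.hom.app T x) :=
    fun f x => ConcreteCategory.congr_hom (e.hom.naturality f) x
  have hnat' : ∀ {T T' : (Over S)ᵒᵖ} (f : T ⟶ T') (x : Q.obj T), e.inv.app T' (Q.map f x) = P.map f (e.inv.app T x) :=
    fun f x => ConcreteCategory.congr_hom (e.inv.naturality f) x
  have h1 : ∀ (T : (Over S)ᵒᵖ) (x : Q.obj T), e.hom.app T (e.inv.app T x) = x := fun T x =>
    ConcreteCategory.congr_hom (e.inv_hom_id_app T) x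
  refine lp_of fun I _ _ D c hc hD hT => ⟨fun x => ?_, fun i x hx => ?_⟩
  · obtain ⟨i, y, hy⟩ := h.surj hc hD hT (e.inv.app _ x)
    refine ⟨i, e.hom.app _ y, ?_⟩
    rw [← hnat, hy]
    exact h1 (op c.pt) x
  · obtain ⟨j, φ, hj⟩ := h.inj hc hD hT (e.inv.app _ x) (by rw [← hnat', hx, map_zero])
    refine ⟨j, φ, ?_⟩
    rw [← hnat'] at hj
    rw [← h1 _ (Q.map _ x), hj, map_zero]

theorem lp_G (S : Scheme.{u}) [IsAffine S] : LP (G S).obj := by
  have h1 : Smooth (Red.Gm S).hom := smooth_gm S
  have h2 : LocallyOfFinitePresentation (Red.Gm S).hom := inferInstance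
  exact lp_of_iso (K810.GmIso.preIso S) (K828.LpPts.lp_ptsPre (Red.Gm S))

variable {k E : Type u} [Field k] [Field E] [Algebra k E]

theorem res_inf {t : E} (ht : K660.Places.IsGen k E t)
    (x : BigSite.H K (Spec (CommRingCat.of E)) (G (Spec (CommRingCat.of E))) 2) :
    HRes.res K (G (Spec (CommRingCat.of E))) 2 (TA E (Einf k E)) x = 0 := by
  have h1 : Subsingleton (EtCoh.H (TA E (Einf k E)).left (EtCoh.Gm (TA E (Einf k E)).left) 2) :=
    Groth.Agent.S0229.result (kb k E) (Einf k E) (trdeg_inf k E (trdeg_of_isGen k E ht)) 2 (by omega)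
  have h2 := GmVan.subsingleton_HU (TA E (Einf k E)) 2
  exact h2.elim _ _

/-- Classes die on a cyclic constant extension. -/
theorem exists_res_eq_zero [Finite k] {t : E} (ht : K660.Places.IsGen k E t)
    (x : BigSite.H K (Spec (CommRingCat.of E)) (G (Spec (CommRingCat.of E))) 2) :
    ∃ c : Finset (AlgebraicClosure E), (∀ y ∈ c, y ∈ kb k E) ∧
      HRes.res K (G (Spec (CommRingCat.of E))) 2 (TA E (Lc k c)) x = 0 := by
  classical
  obtain ⟨B, _, _, hB, φ, hx⟩ := K986.DieFin.exists_fp_alg x (lp_G _) (Einf k E) (res_inf ht x)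
  have hft : Algebra.FiniteType E B := Algebra.FiniteType.of_finitePresentation
  obtain ⟨s, hs⟩ := hft
  obtain ⟨c, hc, hc'⟩ := exists_const (k := k) (s.image fun b => (φ b).1) (fun y hy => by
    obtain ⟨b, -, rfl⟩ := Finset.mem_image.1 hy
    exact (φ b).2)
  refine ⟨c, hc, ?_⟩
  have h1 : ∀ b : B, (φ b).1 ∈ Lc k c := by
    intro b
    have hb : b ∈ Algebra.adjoin E (s : Set B) := by rw [hs]; exact Algebra.mem_top
    induction hb using Algebra.adjoin_induction with
    | mem y hy => exact hc' _ (Finset.mem_image_of_mem _ hy)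
    | algebraMap r =>
      rw [AlgHom.commutes]
      exact (Lc k c).algebraMap_mem r
    | add y z _ _ hy hz =>
      rw [map_add]
      exact add_mem hy hz
    | mul y z _ _ hy hz =>
      rw [map_mul]
      exact mul_mem hy hz
  let ψ : B →ₐ[E] Lc k c :=
    { toFun := fun b => ⟨(φ b).1, h1 b⟩
      map_one' := Subtype.ext (by
        change (φ 1).1 = _
        rw [map_one]
        rfl)
      map_mul' := fun y z => by simp
      map_zero' := Subtype.ext (by
        change (φ 0).1 = _
        rw [map_zero]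
        rfl)
      map_add' := fun y z => by simp
      commutes' := fun r => Subtype.ext (by
        change (φ (algebraMap E B r)).1 = _
        rw [AlgHom.commutes]
        rfl) }
  exact K986.DieFin.Dies.map x hx ψ

end K282.Kill
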